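import Groth.Agent.Misc3Cdp.ConstSub
import Groth.Agent.S0107
import Groth.Agent.EtaleDeep.Cons.ExtZeroConst
import Groth.Agent.EtaleBase.PullConstComp
import Groth.Agent.BTExact.FinrankComp
import Mathlib.CategoryTheory.Abelian.CommSq

/-!
# Finite locally constant sheaves killed by p become iterated extensions of constant sheaves on a finite
étale cover of degree prime to p
-/

set_option autoImplicit false
set_option backward.isDefEq.respectTransparency.types false
set_option linter.style.haveILetI false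

universe u v w

open CategoryTheory CategoryTheory.Limits AlgebraicGeometry Opposite
open scoped ZeroObject

namespace Groth.Misc3Cdp.Trivial

open Groth.EtaleBase Groth.EtaleBase.LocConst SylowCover ConstSub Groth.EtaleDeep.Cons

/-- `B` has a filtration of length `n` with all successive quotients isomorphic to `Z`. -/
def HasFilt {C : Type w} [Category.{v} C] [Abelian C] (Z B : C) (n : ℕ) : Prop :=
  ∃ (G : ℕ → C) (φ : ∀ i, G i ⟶ G (i + 1)),
    IsZero (G 0) ∧ Nonempty (G n ≅ B) ∧ ∀ i, i < n → Mono (φ i) ∧ Nonempty (cokernel (φ i) ≅ Z)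

theorem hasFilt_of_isZero {C : Type w} [Category.{v} C] [Abelian C] (Z : C) {B : C} (h : IsZero B) :
    HasFilt Z B 0 :=
  ⟨fun _ => B, fun _ => 𝟙 B, h, ⟨Iso.refl B⟩, fun i hi => absurd hi (Nat.not_lt_zero i)⟩

theorem hasFilt_of_iso {C : Type w} [Category.{v} C] [Abelian C] {Z B B' : C} {n : ℕ} (e : B ≅ B')
    (h : HasFilt Z B n) : HasFilt Z B' n := by
  obtain ⟨G, φ, h0, ⟨e'⟩, hs⟩ := h
  exact ⟨G, φ, h0, ⟨e' ≪≫ e⟩, hs⟩

/-- A cartesian square over an epimorphism gives an isomorphism of cokernels. -/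
theorem isIso_cokernel_map {C : Type w} [Category.{v} C] [Abelian C] {X₁ X₂ X₃ X₄ : C} {t : X₁ ⟶ X₂}
    {l : X₁ ⟶ X₃} {r : X₂ ⟶ X₄} {b : X₃ ⟶ X₄} (sq : IsPullback t l r b) [Epi r] :
    IsIso (cokernel.map t b l r sq.w) := by
  haveI := Abelian.mono_cokernel_map_of_isPullback sq
  haveI : Epi (cokernel.map t b l r sq.w) := by
    have : Epi (cokernel.π t ≫ cokernel.map t b l r sq.w) := by
      rw [cokernel.π_desc]
      infer_instance
    exact epi_of_epi (cokernel.π t) _
  exact isIso_of_mono_of_epi _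

theorem step_of_eq {C : Type w} [Category.{v} C] [Abelian C] {Z X Y : C} {χ χ' : X ⟶ Y} (h : χ = χ')
    (hm : Mono χ') (e : cokernel χ' ≅ Z) : Mono χ ∧ Nonempty (cokernel χ ≅ Z) := by
  subst h
  exact ⟨hm, ⟨e⟩⟩

/-- Appending one step to a filtration. -/
theorem hasFilt_append {C : Type w} [Category.{v} C] [Abelian C] {Z B' B : C} {m : ℕ}
    (h : HasFilt Z B' m) (j : B' ⟶ B) [Mono j] (e : cokernel j ≅ Z) : HasFilt Z B (m + 1) := by
  obtain ⟨G, φ, h0, ⟨eG⟩, hs⟩ := h
  let G' : ℕ → C := fun i => if i ≤ m then G i else B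
  have hle : ∀ i, i ≤ m → G' i = G i := fun i hi => if_pos hi
  have hgt : ∀ i, ¬i ≤ m → G' i = B := fun i hi => if_neg hi
  let φ' : ∀ i, G' i ⟶ G' (i + 1) := fun i =>
    if h : i + 1 ≤ m then eqToHom (hle i (by omega)) ≫ φ i ≫ eqToHom (hle (i + 1) h).symm
    else if h' : i = m then eqToHom ((hle i (by omega)).trans (congrArg G h')) ≫ (eG.hom ≫ j) ≫
        eqToHom (hgt (i + 1) h).symm
    else eqToHom ((hgt i (by omega)).trans (hgt (i + 1) h).symm)
  refine ⟨G', φ', by rw [hle 0 (Nat.zero_le m)]; exact h0, ⟨eqToIso (hgt (m + 1) (by omega))⟩,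
    fun i hi => ?_⟩
  by_cases h : i + 1 ≤ m
  · obtain ⟨hm, ⟨ec⟩⟩ := hs i (by omega)
    have hφ : φ' i = eqToHom (hle i (by omega)) ≫ φ i ≫ eqToHom (hle (i + 1) h).symm := dif_pos h
    exact step_of_eq hφ inferInstance (cokernelEpiComp _ _ ≪≫ cokernelCompIsIso _ _ ≪≫ ec)
  · obtain rfl : i = m := by omega
    have hφ : φ' i = eqToHom ((hle i (by omega)).trans (congrArg G rfl)) ≫ (eG.hom ≫ j) ≫
        eqToHom (hgt (i + 1) h).symm := (dif_neg h).trans (dif_pos rfl)
    exact step_of_eq hφ inferInstance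
      (cokernelEpiComp _ _ ≪≫ cokernelCompIsIso _ _ ≪≫ cokernelEpiComp _ _ ≪≫ e)

/-- Extensions prolong filtrations. -/
theorem hasFilt_ext {C : Type w} [Category.{v} C] [Abelian C] {Z : C} :
    ∀ {n : ℕ} {Q : C}, HasFilt Z Q n → ∀ {A B : C} (a : A ⟶ B) (q : B ⟶ Q) (_ : Mono a) (_ : Epi q)
      (hz : a ≫ q = 0), (ShortComplex.mk a q hz).Exact → (A ≅ Z) → HasFilt Z B (n + 1) := by
  intro n
  induction n with
  | zero =>
    intro Q h A B a q _ _ hz hex eA
    obtain ⟨H, φ, h0, ⟨e⟩, -⟩ := h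
    have hQ : IsZero Q := h0.of_iso e.symm
    haveI : Epi a := (ShortComplex.exact_iff_epi _ (hQ.eq_of_tgt q 0)).1 hex
    haveI : IsIso a := isIso_of_mono_of_epi a
    haveI : Mono (0 : (0 : C) ⟶ B) := (isZero_zero C).mono _
    exact hasFilt_append (hasFilt_of_isZero Z (isZero_zero C)) (0 : (0 : C) ⟶ B)
      (cokernelZeroIsoTarget ≪≫ (asIso a).symm ≪≫ eA)
  | succ n ih =>
    intro Q h A B a q _ _ hz hex eA
    obtain ⟨H, φ, h0, ⟨e⟩, hs⟩ := h
    obtain ⟨hm, ⟨ec⟩⟩ := hs n (Nat.lt_succ_self n)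
    let k : H n ⟶ Q := φ n ≫ e.hom
    let a' : A ⟶ pullback q k := pullback.lift a 0 (by rw [hz, zero_comp])
    haveI : Mono a' := mono_of_mono_fac (pullback.lift_fst _ _ _)
    have hex' : (ShortComplex.mk a' (pullback.snd q k) (pullback.lift_snd _ _ _)).Exact := by
      rw [ShortComplex.exact_iff_exact_up_to_refinements]
      intro T x hx
      have hx' : (x ≫ pullback.fst q k) ≫ q = 0 := by
        rw [Category.assoc, pullback.condition, reassoc_of% hx, zero_comp]
      obtain ⟨T', π, hπ, y, hy⟩ := hex.exact_up_to_refinements (x ≫ pullback.fst q k) hx'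
      refine ⟨T', π, hπ, y, ?_⟩
      apply pullback.hom_ext
      · rw [Category.assoc, Category.assoc, pullback.lift_fst]
        exact hy
      · rw [Category.assoc, Category.assoc, pullback.lift_snd, comp_zero, hx, comp_zero]
    have hB' : HasFilt Z (pullback q k) (n + 1) :=
      ih ⟨H, φ, h0, ⟨Iso.refl _⟩, fun i hi => hs i (by omega)⟩ a' (pullback.snd q k) inferInstance
        inferInstance _ hex' eA
    haveI := isIso_cokernel_map (IsPullback.of_hasPullback q k)
    exact hasFilt_append hB' (pullback.fst q k)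
      (asIso (cokernel.map _ k _ q (IsPullback.of_hasPullback q k).w) ≪≫ cokernelCompIsIso _ _ ≪≫ ec)

section Schemes

variable {p : ℕ} [hp : Fact p.Prime]

/-- Transport of filtrations along exact functors. -/
theorem hasFilt_map {C : Type w} [Category.{v} C] [Abelian C] {D : Type w} [Category.{v} D] [Abelian D]
    (F : C ⥤ D) [F.Additive] [PreservesFiniteLimits F] [PreservesFiniteColimits F] {Z B : C} {Z' : D}
    (e : F.obj Z ≅ Z') {n : ℕ} (h : HasFilt Z B n) : HasFilt Z' (F.obj B) n := by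
  obtain ⟨G, φ, h0, ⟨eG⟩, hs⟩ := h
  exact ⟨fun i => F.obj (G i), fun i => F.map (φ i), F.map_isZero h0, ⟨F.mapIso eG⟩, fun i hi => by
    obtain ⟨hm, ⟨ec⟩⟩ := hs i hi
    exact ⟨inferInstance, ⟨(PreservesCokernel.iso F (φ i)).symm ≪≫ F.mapIso ec ≪≫ e⟩⟩⟩

/-- The stalks of a representable sheaf are finite with as many elements as the degree. -/
theorem natCard_stalk {X : Scheme.{u}} {G : EtCoh.Ab X} {U : X.Etale}
    (e : G.obj ⋙ forget AddCommGrpCat.{u + 1} ≅ yoneda.obj U ⋙ uliftFunctor.{u + 1}) [IsFinite U.hom]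
    {Ω : Type u} [Field Ω] [IsSepClosed Ω] (ξ : Spec (CommRingCat.of Ω) ⟶ X) :
    Finite ((EtCoh.stalk ξ).obj G) ∧ Nat.card ((EtCoh.stalk ξ).obj G) = U.hom.finrank (ξ default) := by
  haveI : Etale U.hom := U.prop
  let UF : FEt.Cat X := MorphismProperty.Over.mk ⊤ U.hom ⟨inferInstance, inferInstance⟩
  haveI : Etale UF.hom := UF.prop.2
  haveI : IsFinite UF.hom := UF.prop.1
  have θ : FEt.fiberObj ξ UF ≃ (EtCoh.stalk ξ).obj G :=
    (fibreEquiv ξ UF).trans (Equiv.ofBijective _ (bijective_germUniv (reprIso e) ξ))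
  haveI : Finite (FEt.fiberObj ξ UF) :=
    Finite.of_equiv ((Pi1FEt.fiberFun ξ).obj UF : Type u) (((Pi1FEt.fiberFunIso ξ).app UF).toEquiv)
  exact ⟨Finite.of_equiv _ θ, (Nat.card_congr θ).symm.trans (Pi1FEt.natCard_fiberObj ξ UF)⟩

/-- Finite locally constant sheaves killed by `p` on a connected scheme become iterated extensions of
constant sheaves on a connected finite étale cover of degree prime to `p`. -/
theorem exists_filtration (n : ℕ) : ∀ (X : Scheme.{u}) [ConnectedSpace X] (G : EtCoh.Ab X),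
    EtCoh.IsFiniteLocallyConstant G → EtCoh.KilledBy p G →
    ∀ (Ω : Type u) [Field Ω] [IsAlgClosed Ω] (ξ : Spec (CommRingCat.of Ω) ⟶ X),
      Nat.card ((EtCoh.stalk ξ).obj G) ≤ n →
      ∃ (T : Scheme.{u}) (f : T ⟶ X) (_ : IsFinite f) (_ : Etale f) (_ : ConnectedSpace T) (d : ℕ),
        p.Coprime d ∧ (∀ x, f.finrank x = d) ∧
        ∃ m, HasFilt (EtCoh.const T (ZMod p)) ((EtCoh.pull f).obj G) m := by
  induction n using Nat.strong_induction_on with
  | _ n ih =>
    intro X _ G hG hk Ω _ _ ξ hn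
    obtain ⟨U, hU, ⟨e⟩⟩ := Groth.Agent.S0107.result G hG
    obtain ⟨hfin, hcard⟩ := natCard_stalk e ξ
    haveI := hfin
    by_cases htriv : ∀ a : (EtCoh.stalk ξ).obj G, a = 0
    · have hGz : IsZero G := by
        rw [IsZero.iff_id_eq_zero]
        refine stalkAt_jointlyReflectIsomorphisms.jointlyFaithful.map_injective fun x => ?_
        obtain ⟨hf', hc'⟩ := natCard_stalk e (geomPoint x)
        haveI := hf'
        haveI : Etale U.hom := U.prop
        haveI : Subsingleton ((EtCoh.stalk ξ).obj G) := ⟨fun a b => (htriv a).trans (htriv b).symm⟩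
        let g : U.left ⟶ X := U.hom
        haveI : IsFinite g := hU
        haveI : Etale g := U.prop
        have h1 : Nat.card ((EtCoh.stalk (geomPoint x)).obj G) = 1 := by
          rw [hc', show U.hom.finrank ((geomPoint x) default) = U.hom.finrank (ξ default) from
            g.isLocallyConstant_finrank.apply_eq_of_preconnectedSpace _ _, ← hcard,
            Nat.card_of_subsingleton (0 : (EtCoh.stalk ξ).obj G)]
        haveI := (Nat.card_eq_one_iff_unique.1 h1).1
        exact (AddCommGrpCat.isZero_of_subsingleton _).eq_of_src _ _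
      refine ⟨X, 𝟙 X, inferInstance, inferInstance, inferInstance, 1, Nat.coprime_one_right p,
        fun x => congrFun (Scheme.Hom.finrank_eq_one_of_isIso (𝟙 X)) x, 0, hasFilt_of_isZero _ ?_⟩
      exact Functor.map_isZero _ hGz
    push Not at htriv
    obtain ⟨a, ha⟩ := htriv
    obtain ⟨T, f, hff, hfe, hTc, d, hd, hdeg, s, t, hst⟩ := exists_cover e hk ξ a ha
    haveI := hTc
    haveI : ConnectedSpace ↥(Scheme.Etale.mk f).left := hTc
    obtain ⟨σ, hσ⟩ := ConstSub.exists_section f s fun η t' =>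
      germ_ne_zero e (W := Scheme.Etale.mk f) s ξ t hst η t'
    obtain ⟨φ, hφ⟩ := exists_mono_zmod (killedBy_pull f hk) σ @hσ
    have hGf := isFLC_pull f hG
    have hQ : EtCoh.IsFiniteLocallyConstant (cokernel φ) :=
      isFLC_cokernel φ (isFLC_constantSheaf T (ZMod p)) hGf
    let η : Spec (CommRingCat.of Ω) ⟶ T := t.left
    have hη : η ≫ f = ξ := Over.w t
    obtain ⟨U', hU', ⟨e'⟩⟩ := Groth.Agent.S0107.result _ hGf
    haveI hfin' := (natCard_stalk e' η).1
    have hbij : Function.Bijective ((stalkPullIso f η).hom.app G) :=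
      (ConcreteCategory.isIso_iff_bijective _).1 inferInstance
    have hlt : Nat.card ((EtCoh.stalk η).obj (cokernel φ)) < n := by
      have hsurj := stalk_surjective_of_epi (ξ := η) (cokernel.π φ)
      have hle : Nat.card ((EtCoh.stalk η).obj (cokernel φ)) ≤
          Nat.card ((EtCoh.stalk η).obj ((EtCoh.pull f).obj G)) :=
        Nat.card_le_card_of_surjective _ hsurj
      have heq : Nat.card ((EtCoh.stalk η).obj ((EtCoh.pull f).obj G)) = Nat.card ((EtCoh.stalk ξ).obj G) := by
        rw [← hη]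
        exact (Nat.card_congr (Equiv.ofBijective _ hbij)).symm
      refine lt_of_lt_of_le (lt_of_le_of_ne hle fun heqc => ?_) (heq.trans_le hn)
      have hinj := (Nat.bijective_iff_surjective_and_card _).2 ⟨hsurj, heqc.symm⟩
      obtain ⟨tt, -⟩ := exists_fiber_of_point η (EtCoh.top T) (η.base default) rfl
      let z := germ η (EtCoh.const T (ZMod p)) (EtCoh.top T) tt
        (((CategoryTheory.toSheafify T.smallEtaleTopology ((Functor.const T.Etaleᵒᵖ).obj
          (AddCommGrpCat.of (ULift.{u + 1} (ZMod p))))).app (op (EtCoh.top T))).hom ⟨1⟩)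
      have hz : (EtCoh.stalk η).map φ z = 0 := hinj.1 (by
        rw [map_zero, ← ConcreteCategory.comp_apply, ← Functor.map_comp, cokernel.condition,
          Functor.map_zero]
        rfl)
      have hz0 : z = 0 := mono_stalk_injective (ξ := η) φ (hz.trans (map_zero _).symm)
      have h1 : (⟨1⟩ : ULift.{u + 1} (ZMod p)) = 0 :=
        (exists_stalkBij_const (EtCoh.top T) (ULift.{u + 1} (ZMod p)) _ _ _ η tt).1
          (hz0.trans (by simp))
      exact one_ne_zero (α := ZMod p) (congrArg ULift.down h1)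
    obtain ⟨T', f', hff', hfe', hTc', d', hd', hdeg', m, hm⟩ :=
      ih _ hlt T (cokernel φ) hQ (killedBy_cokernel φ (killedBy_pull f hk)) Ω η le_rfl
    refine ⟨T', f' ≫ f, inferInstance, inferInstance, hTc', d' * d, Nat.Coprime.mul_right hd' hd,
      fun x => by rw [Groth.BTExact.finrank_comp f' f d' hdeg' x, hdeg], m + 1, ?_⟩
    refine hasFilt_of_iso ((EtCore.pullComp f' f).app G).symm ?_
    refine hasFilt_ext hm ((EtCoh.pull f').map φ) ((EtCoh.pull f').map (cokernel.π φ)) inferInstance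
      inferInstance (by rw [← Functor.map_comp, cokernel.condition, Functor.map_zero]) ?_
      (EtCore.pullConst f' (ZMod p))
    exact (ShortComplex.exact_of_g_is_cokernel (ShortComplex.mk φ (cokernel.π φ) (cokernel.condition φ))
      (cokernelIsCokernel φ)).map (EtCoh.pull f')

end Schemes

end Groth.Misc3Cdp.Trivial
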