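import Groth.Agent.EtaleBase.RpushExact
import Groth.Agent.EtaleBase.InjCoh
import Groth.Agent.EtaleBase.PushEpi
import Groth.Agent.EtaleBase.ExtZeroProps
import Groth.Agent.EtaleBase.PullStalk
import Groth.Agent.Misc3Cdp.Trivial

/-!
# Sheaves with cohomology vanishing above a given degree
-/

set_option autoImplicit false
set_option backward.isDefEq.respectTransparency.types false
set_option linter.style.haveILetI false

universe u

open CategoryTheory CategoryTheory.Limits CategoryTheory.Abelian AlgebraicGeometry Opposite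

namespace Groth.Misc3Cdp.Van

variable {X Y : Scheme.{u}} (D : ℕ)

/-- Cohomology vanishes above degree `D`. -/
def Above (F : EtCoh.Ab X) : Prop := ∀ q, D < q → Subsingleton (EtCoh.H X F q)

variable {D}

lemma of_iso {F G : EtCoh.Ab X} (e : F ≅ G) (h : Above D F) : Above D G := fun q hq =>
  haveI : Subsingleton ((EtCoh.HF X q).obj F) := h q hq
  (((EtCoh.HF X q).mapIso e.symm).addCommGroupIsoToAddEquiv.toEquiv).subsingleton

lemma of_retract {F G : EtCoh.Ab X} (s : F ⟶ G) (r : G ⟶ F) (w : s ≫ r = 𝟙 F) (h : Above D G) :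
    Above D F := fun q hq => by
  refine subsingleton_of_forall_eq 0 fun x => ?_
  have e : (EtCoh.HF X q).map r ((EtCoh.HF X q).map s x) = x := by
    rw [← ConcreteCategory.comp_apply, ← Functor.map_comp, w, CategoryTheory.Functor.map_id]
    rfl
  haveI : Subsingleton ((EtCoh.HF X q).obj G) := h q hq
  rw [← e, Subsingleton.elim ((EtCoh.HF X q).map s x) 0]
  exact map_zero _

lemma of_isZero {F : EtCoh.Ab X} (h : IsZero F) : Above D F := fun q _ => by
  refine subsingleton_of_forall_eq 0 fun x => ?_
  exact (Ext.comp_mk₀_id (show Ext _ F q from x)).symm.trans (by rw [h.eq_of_src (𝟙 F) 0, Ext.mk₀_zero, Ext.comp_zero])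

lemma of_ext {S : ShortComplex (EtCoh.Ab X)} (hS : S.ShortExact) (h1 : Above D S.X₁) (h3 : Above D S.X₃) :
    Above D S.X₂ := fun q hq => by
  refine subsingleton_of_forall_eq 0 fun x => ?_
  obtain ⟨y, rfl⟩ := Ext.covariant_sequence_exact₂ _ hS (show Ext _ S.X₂ q from x) ((h3 q hq).elim _ _)
  rw [show y = 0 from (h1 q hq).elim _ _]
  exact Ext.zero_comp _ _ (Ext.mk₀ S.f) q (add_zero q)

lemma biproduct {ι : Type} [Fintype ι] (F : ι → EtCoh.Ab X) (h : ∀ i, Above D (F i)) :
    Above D (⨁ F) := fun q hq => by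
  refine subsingleton_of_forall_eq 0 fun x => ?_
  haveI : ∀ i, Subsingleton ((EtCoh.HF X q).obj (F i)) := fun i => h i q hq
  change Ext _ (⨁ F) q at x
  show x = 0
  rw [← Ext.comp_mk₀_id x, ← biproduct.total, Ext.mk₀_sum, Ext.comp_sum]
  refine Finset.sum_eq_zero fun i _ => ?_
  rw [← Ext.mk₀_comp_mk₀, ← Ext.comp_assoc_of_second_deg_zero,
    show Ext.comp x (Ext.mk₀ (biproduct.π F i)) (add_zero q) = 0 from (h i q hq).elim _ _, Ext.zero_comp]

lemma push (f : Y ⟶ X) [IsFinite f] {F : EtCoh.Ab Y} (h : Above D F) :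
    Above D ((EtCoh.push f).obj F) := fun q hq =>
  haveI := h q hq
  (Groth.EtaleBase.InjCoh.HofPush_bijective f F
    (fun r hr => Groth.EtaleBase.isZero_Rpush f F r hr) q).1.subsingleton

lemma shortExact_push (f : Y ⟶ X) [IsFinite f] {S : ShortComplex (EtCoh.Ab Y)} (hS : S.ShortExact) :
    (S.map (EtCoh.push f)).ShortExact := by
  haveI : PreservesLimitsOfSize.{0, 0} (EtCoh.push f) := (EtCoh.pullPushAdj f).rightAdjoint_preservesLimits
  haveI : PreservesFiniteLimits (EtCoh.push f) := PreservesLimitsOfSize.preservesFiniteLimits _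
  haveI := Groth.EtaleBase.push_preservesFiniteColimits f
  exact hS.map_of_exact _

lemma additive_extZero (j : Y ⟶ X) [Etale j] [EtShriek.JCont j] : (EtShriek.extZero j).Additive := by
  have := (EtShriek.extZeroAdj j).isLeftAdjoint
  have := preservesBinaryBiproducts_of_preservesBinaryCoproducts (EtShriek.extZero j)
  exact Functor.additive_of_preservesBinaryBiproducts _

attribute [local instance] additive_extZero

lemma shortExact_extZero (j : Y ⟶ X) [IsOpenImmersion j] [Etale j] [EtShriek.JCont j]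
    {S : ShortComplex (EtCoh.Ab Y)} (hS : S.ShortExact) : (S.map (EtShriek.extZero j)).ShortExact := by
  haveI := Groth.EtaleBase.extZero_preservesFiniteLimits j
  haveI := additive_extZero j
  haveI : PreservesColimitsOfSize.{0, 0} (EtShriek.extZero j) :=
    (EtShriek.extZeroAdj j).leftAdjoint_preservesColimits
  haveI : PreservesFiniteColimits (EtShriek.extZero j) := PreservesColimitsOfSize.preservesFiniteColimits _
  exact hS.map_of_exact _

/-- The sheaf `j_! h_* G` on `X` for `h` finite and `j` an open immersion. -/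
noncomputable def phi {T V : Scheme.{u}} (j : V ⟶ X) [Etale j] [EtShriek.JCont j] (h : T ⟶ V) (G : EtCoh.Ab T) :
    EtCoh.Ab X :=
  (EtShriek.extZero j).obj ((EtCoh.push h).obj G)

/-- A filtration by sheaves with vanishing cohomology. -/
lemma of_hasFilt {T V : Scheme.{u}} (j : V ⟶ X) [IsOpenImmersion j] [Etale j] [EtShriek.JCont j] (h : T ⟶ V)
    [IsFinite h] {Z G : EtCoh.Ab T} (hZ : Above D (phi j h Z)) :
    ∀ {n : ℕ}, Trivial.HasFilt Z G n → Above D (phi j h G) := by
  intro n
  induction n generalizing G with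
  | zero =>
    rintro ⟨E, φ, h0, ⟨e⟩, -⟩
    haveI := additive_extZero j
    refine of_isZero (Functor.map_isZero _ ?_)
    haveI : (EtCoh.push h).Additive := (EtCoh.pullPushAdj h).right_adjoint_additive
    exact Functor.map_isZero _ (h0.of_iso e.symm)
  | succ n ih =>
    rintro ⟨E, φ, h0, ⟨e⟩, hs⟩
    obtain ⟨hm, ⟨ec⟩⟩ := hs n (Nat.lt_succ_self n)
    let S := ShortComplex.mk (φ n ≫ e.hom) (e.inv ≫ cokernel.π (φ n) ≫ ec.hom)
      (by rw [Category.assoc, e.hom_inv_id_assoc, cokernel.condition_assoc, zero_comp])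
    have hS : S.ShortExact :=
      { exact := ShortComplex.exact_of_iso (S₁ := ShortComplex.mk (φ n) (cokernel.π (φ n)) (cokernel.condition _))
          (ShortComplex.isoMk (Iso.refl _) e ec (by simp [S]) (by simp [S]))
          (ShortComplex.exact_of_g_is_cokernel _ (cokernelIsCokernel _))
        mono_f := mono_comp _ _
        epi_g := epi_comp _ _ }
    exact of_ext (shortExact_extZero j (shortExact_push h hS))
      (ih ⟨E, φ, h0, ⟨Iso.refl _⟩, fun i hi => hs i (by omega)⟩) hZ

end Groth.Misc3Cdp.Van
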