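import Groth.Agent.Misc3Cdp.GaClosed
import Groth.Agent.Misc3Cdp.Van
import Groth.Agent.Misc3Zar.ArtinSchreier
import Groth.Agent.Misc3Zar.EndoCompare
import Groth.Agent.CohBase.AffinePush
import Groth.Agent.EtaleBase.Recollement
import Groth.Agent.EtPbc.ConsFiltration
import Groth.Agent.S18415

/-!
# Extensions by zero of `ℤ/p` in characteristic `p`
-/

set_option autoImplicit false
set_option backward.isDefEq.respectTransparency.types false
set_option linter.style.haveILetI false

universe u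

open CategoryTheory CategoryTheory.Limits CategoryTheory.Abelian AlgebraicGeometry Opposite TopologicalSpace

namespace Groth.Misc3Cdp.ASExtZero

open Groth.Misc3Zar Groth.EtaleBase Groth.EtaleBase.LocConst

attribute [local instance] Groth.EtaleBase.InjCoh.jCont

variable {T : Scheme.{u}} {p : ℕ} (hp : p.Prime) (h0 : (p : Γ(T, ⊤)) = 0)

/-- `F - 1`. -/
noncomputable abbrev as : EtCoh.Ga T ⟶ EtCoh.Ga T := W4c5etcohweilstudent.artinSchreierEndo T p hp h0

/-- The Artin–Schreier sequence. -/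
noncomputable abbrev asSeq : ShortComplex (EtCoh.Ab T) :=
  ShortComplex.mk (kernel.ι (as hp h0)) (as hp h0) (kernel.condition _)

theorem asSeq_shortExact : (asSeq hp h0).ShortExact := by
  haveI : Epi (as hp h0) := Groth.Agent.S18415.result p hp h0
  exact { exact := ShortComplex.exact_of_f_is_kernel _ (kernelIsKernel _) }

theorem above_kernel (d : ℕ) (hGa : ∀ n, d < n → Subsingleton (EtCoh.H T (EtCoh.Ga T) n)) :
    Van.Above (d + 1) (kernel (as hp h0)) := by
  intro q hq
  obtain ⟨n, rfl⟩ : ∃ n, q = n + 1 := ⟨q - 1, by omega⟩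
  refine subsingleton_of_forall_eq 0 fun x => ?_
  obtain ⟨y, rfl⟩ := Ext.covariant_sequence_exact₁ _ (asSeq_shortExact hp h0)
    (show Ext _ (asSeq hp h0).X₁ (n + 1) from x) ((hGa (n + 1) (by omega)).elim _ _) rfl
  rw [show y = 0 from (hGa n (by omega)).elim _ _]
  exact Ext.zero_comp _ _ _ _ _

/-- The stalks of the kernel of `F - 1` have `p` elements. -/
theorem natCard_stalk_kernel {Ω : Type u} [Field Ω] [IsSepClosed Ω] (ξ : Spec (CommRingCat.of Ω) ⟶ T) :
    Nat.card ((EtCoh.stalk ξ).obj (EtCoh.const T (ZMod p))) = p ∧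
      Nat.card ((EtCoh.stalk ξ).obj (kernel (as hp h0))) = p := by
  haveI : NeZero p := ⟨hp.ne_zero⟩
  obtain ⟨t, -⟩ := exists_fiber_of_point ξ (EtCoh.top T) (ξ.base default) rfl
  have h1 : Nat.card ((EtCoh.stalk ξ).obj (EtCoh.const T (ZMod p))) = p := by
    exact (Nat.card_congr (Equiv.ofBijective _
      (exists_stalkBij_const (EtCoh.top T) (ULift.{u + 1} (ZMod p)) _ _ _ ξ t))).symm.trans
      ((Nat.card_congr (Equiv.ulift.{u + 1, 0} (α := ZMod p))).trans (Nat.card_zmod p))
  obtain ⟨e⟩ := AS.nonempty_kernel_iso_const p hp h0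
  exact ⟨h1, (Nat.card_congr ((EtCoh.stalk ξ).mapIso e).addCommGroupIsoToAddEquiv.toEquiv).trans h1⟩

/-- A germ of a section with unit value is nonzero. -/
theorem germ_one_ne_zero {Ω : Type u} [Field Ω] [IsSepClosed Ω] (ξ : Spec (CommRingCat.of Ω) ⟶ T)
    (U : T.Etale) (t : (Scheme.pointSmallEtale ξ).fiber.obj U) :
    germ ξ (EtCoh.Ga T) U t (AS.gaEl U 1) ≠ 0 := by
  intro h
  obtain ⟨W, k, w, hw, hz⟩ := (germ_eq_zero_iff ξ _ U t _).1 h
  have h1 : (1 : Γ(W.left, ⊤)) = 0 := by
    have := congrArg AS.gaVal hz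
    rw [AS.gaVal_map, AS.gaVal_gaEl, map_one] at this
    exact this
  have hpt : (show W.left from fiberPoint ξ w) ∈ W.left.basicOpen (1 : Γ(W.left, ⊤)) := by
    rw [Scheme.basicOpen_of_isUnit _ isUnit_one]
    trivial
  rw [h1, Scheme.basicOpen_zero] at hpt
  exact hpt

variable {U : Scheme.{u}} (j : U ⟶ T) [IsOpenImmersion j]

/-- The comparison of the kernels of `F - 1` on `T` and on the complement of an open subscheme. -/
theorem exists_kernel_iso {Z : Scheme.{u}} (i : Z ⟶ T) [IsClosedImmersion i]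
    (hr : Set.range i.base = (Set.range j.base)ᶜ) (hp : p.Prime) (h0 : (p : Γ(T, ⊤)) = 0)
    (h0Z : (p : Γ(Z, ⊤)) = 0) :
    ∃ κ : kernel (as hp h0) ⟶ (EtCoh.push i).obj (kernel (as hp h0Z)), Epi κ ∧
      κ ≫ (EtCoh.push i).map (kernel.ι (as hp h0Z)) = kernel.ι (as hp h0) ≫ GaClosed.rho i ∧
      as hp h0 ≫ GaClosed.rho i = GaClosed.rho i ≫ (EtCoh.push i).map (as hp h0Z) ∧
      Nonempty (kernel κ ≅ (EtShriek.extZero j).obj (EtCoh.const U (ZMod p))) := by
  classical
  haveI : NeZero p := ⟨hp.ne_zero⟩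
  let a := as hp h0
  let aZ := as hp h0Z
  let ρ := GaClosed.rho i
  have hcomm : a ≫ ρ = ρ ≫ (EtCoh.push i).map aZ := by
    refine Sheaf.hom_ext (NatTrans.ext (funext fun V => ?_))
    ext s
    obtain ⟨x⟩ := s
    change Γ(V.unop.left, ⊤) at x
    refine congrArg ULift.up ?_
    show (pullback.fst V.unop.hom i).appTop (x ^ p - x) =
      (pullback.fst V.unop.hom i).appTop x ^ p - (pullback.fst V.unop.hom i).appTop x
    rw [map_sub, map_pow]
  have hS := asSeq_shortExact hp h0
  have hP := Van.shortExact_push i (asSeq_shortExact hp h0Z)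
  haveI := hP.mono_f
  obtain ⟨κ, hκ⟩ : ∃ κ : kernel a ⟶ (EtCoh.push i).obj (kernel aZ),
      κ ≫ (EtCoh.push i).map (kernel.ι aZ) = kernel.ι a ≫ ρ :=
    ⟨(KernelFork.IsLimit.lift' hP.fIsKernel (kernel.ι a ≫ ρ)
        (by rw [Category.assoc]; erw [← hcomm, kernel.condition_assoc, zero_comp])).1,
      (KernelFork.IsLimit.lift' hP.fIsKernel (kernel.ι a ≫ ρ) _).2⟩
  -- the key section
  obtain ⟨b, hb⟩ := (AS.kernelι_sections a (EtCoh.top T)).2 (AS.gaEl (EtCoh.top T) 1) (AS.gaVal_injective (by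
    refine (AS.gaVal_as p hp h0 _).trans ?_
    rw [AS.gaVal_gaEl, one_pow, sub_self]; rfl))
  have hinj : ∀ {Ω : Type u} [Field Ω] [IsSepClosed Ω] (ξ : Spec (CommRingCat.of Ω) ⟶ T),
      ξ.base default ∈ Set.range i.base → Function.Injective ((EtCoh.stalk ξ).map κ) := by
    intro Ω _ _ ξ hξ
    obtain ⟨t, -⟩ := exists_fiber_of_point ξ (EtCoh.top T) (ξ.base default) rfl
    let g := germ ξ (kernel a) (EtCoh.top T) t b
    have hg : g ≠ 0 := fun h => germ_one_ne_zero ξ (EtCoh.top T) t (by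
      rw [← hb, ← germ_map]
      exact (congrArg _ h).trans (map_zero _))
    have hκg : (EtCoh.stalk ξ).map κ g ≠ 0 := by
      intro h
      have h' : germ ξ ((EtCoh.push i).obj (EtCoh.Ga Z)) (EtCoh.top T) t
          (ρ.hom.app (op (EtCoh.top T)) (AS.gaEl (EtCoh.top T) 1)) = 0 := by
        have e1 : (EtCoh.stalk ξ).map ((EtCoh.push i).map (kernel.ι aZ)) ((EtCoh.stalk ξ).map κ g) = 0 :=
          (congrArg _ h).trans (map_zero _)
        rw [← hb, ← germ_map, ← germ_map]
        have hκ' : κ ≫ (EtCoh.push i).map (kernel.ι aZ) = kernel.ι a ≫ ρ := hκ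
        have e2 := congrArg (fun q : kernel a ⟶ (EtCoh.push i).obj (EtCoh.Ga Z) =>
          (EtCoh.stalk ξ).map q g) hκ'
        simp only [Functor.map_comp, ConcreteCategory.comp_apply] at e2
        exact e2.symm.trans e1
      obtain ⟨V, k, v, hv, hz⟩ := (germ_eq_zero_iff ξ _ _ t _).1 h'
      obtain ⟨z, hz'⟩ := hξ
      let vp : V.left := fiberPoint ξ v
      have hvp : V.hom.base vp = i.base z := by
        rw [hz']
        exact congrArg (fun q : Spec (CommRingCat.of Ω) ⟶ T => q.base default) (Over.w v)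
      obtain ⟨y, -, -⟩ := Scheme.Pullback.exists_preimage_pullback (f := V.hom) (g := i) vp z hvp
      have h1 : (1 : Γ(pullback V.hom i, ⊤)) = 0 := by
        rw [← NatTrans.naturality_apply] at hz
        have h2 := congrArg ULift.down hz
        change (pullback.fst V.hom i).appTop (k.left.appTop (1 : Γ((EtCoh.top T).left, ⊤))) = 0 at h2
        rwa [map_one, map_one] at h2
      have hpt : y ∈ (pullback V.hom i).basicOpen (1 : Γ(pullback V.hom i, ⊤)) := by
        rw [Scheme.basicOpen_of_isUnit _ isUnit_one]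
        trivial
      rw [h1, Scheme.basicOpen_zero] at hpt
      exact hpt
    have hcard : Nat.card ((EtCoh.stalk ξ).obj (kernel a)) = p := (natCard_stalk_kernel hp h0 ξ).2
    have hgen : ∀ c : (EtCoh.stalk ξ).obj (kernel a), c ∈ AddSubgroup.zmultiples g := fun c => by
      haveI := Fact.mk hp
      exact mem_zmultiples_of_prime_card hcard hg
    refine (injective_iff_map_eq_zero _).2 fun c hc => ?_
    obtain ⟨k, rfl⟩ := AddSubgroup.mem_zmultiples_iff.1 (hgen c)
    rw [map_zsmul] at hc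
    have hpg : p • g = 0 := by rw [← hcard]; exact card_nsmul_eq_zero'
    have hord : addOrderOf ((EtCoh.stalk ξ).map κ g) = p := by
      haveI := Fact.mk hp
      exact addOrderOf_eq_prime (by rw [← map_nsmul, hpg, map_zero]) hκg
    obtain ⟨l, hl⟩ := (hord ▸ addOrderOf_dvd_iff_zsmul_eq_zero.2 hc : (p : ℤ) ∣ k)
    rw [hl, mul_comm, mul_zsmul, natCast_zsmul, hpg, zsmul_zero]
  haveI : Epi κ := by
    have := Groth.EtaleBase.isLocallySurjective_of_exists_stalk_surjective κ fun x => by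
      refine ⟨SeparableClosure (T.residueField x), inferInstance, inferInstance, geomPoint x, geomPoint_apply _ _, ?_⟩
      let ξ := geomPoint x
      by_cases hx : ξ.base default ∈ Set.range i.base
      · haveI := isIso_stalk_unit_closedImmersion i ξ hx (EtCoh.const T (ZMod p))
        obtain ⟨e⟩ := AS.nonempty_kernel_iso_const p hp h0Z
        let e' : (EtCoh.stalk ξ).obj (EtCoh.const T (ZMod p)) ≅
            (EtCoh.stalk ξ).obj ((EtCoh.push i).obj (kernel aZ)) :=
          (asIso ((EtCoh.stalk ξ).map ((EtCoh.pullPushAdj i).unit.app (EtCoh.const T (ZMod p))))) ≪≫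
            (EtCoh.stalk ξ).mapIso ((EtCoh.push i).mapIso ((EtCore.pullConst i (ZMod p)) ≪≫ e.symm))
        haveI : Finite ((EtCoh.stalk ξ).obj ((EtCoh.push i).obj (kernel aZ))) := by
          haveI := Nat.finite_of_card_ne_zero ((natCard_stalk_kernel hp h0 ξ).1.trans_ne hp.ne_zero)
          exact Finite.of_equiv _ e'.addCommGroupIsoToAddEquiv.toEquiv
        exact ((Nat.bijective_iff_injective_and_card _).2 ⟨hinj ξ hx, (natCard_stalk_kernel hp h0 ξ).2.trans
          ((natCard_stalk_kernel hp h0 ξ).1.symm.trans (Nat.card_congr e'.addCommGroupIsoToAddEquiv.toEquiv))⟩).2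
      · intro y
        haveI : Subsingleton ((EtCoh.stalk ξ).obj ((EtCoh.push i).obj (kernel aZ))) :=
          AddCommGrpCat.subsingleton_of_isZero
            (isZero_stalk_push i i.isClosedEmbedding.isClosed_range ξ hx _)
        exact ⟨0, @Subsingleton.elim _ ‹_› _ _⟩
    exact (Sheaf.isLocallySurjective_iff_epi' (A := AddCommGrpCat.{u + 1}) κ).1 this
  let R : ShortComplex (EtCoh.Ab T) := ShortComplex.mk (kernel.ι κ) κ (kernel.condition κ)
  have hR : R.ShortExact := { exact := ShortComplex.exact_of_f_is_kernel _ (kernelIsKernel κ) }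
  -- the kernel is the extension by zero
  have hker : Nonempty (kernel κ ≅ (EtShriek.extZero j).obj (EtCoh.const U (ZMod p))) := by
    refine nonempty_iso_extZero j _ _ ?_ ?_
    · haveI : IsIso ((EtCoh.pull j).map (kernel.ι κ)) := Groth.EtPbc.ConsFiltration.isIso_pull_map j _ fun u => by
        refine ((hR.map_of_exact (EtCoh.stalk (geomPoint u ≫ j))).isIso_f_iff).2
          (isZero_stalk_push i i.isClosedEmbedding.isClosed_range _ ?_ _)
        rw [hr, Scheme.Hom.comp_apply, geomPoint_apply]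
        exact fun h => h ⟨u, rfl⟩
      obtain ⟨e⟩ := AS.nonempty_kernel_iso_const p hp h0
      exact ⟨((pullRestrIso j).app (kernel κ)).symm ≪≫ asIso ((EtCoh.pull j).map (kernel.ι κ)) ≪≫
        (EtCoh.pull j).mapIso e ≪≫ EtCore.pullConst j (ZMod p)⟩
    · intro Ω _ _ ξ hξ
      have hmem : ξ.base default ∈ Set.range i.base := by rw [hr]; exact hξ ⟨default, rfl⟩
      haveI hs := hR.map_of_exact (EtCoh.stalk ξ)
      haveI : Mono ((EtCoh.stalk ξ).map κ) := (AddCommGrpCat.mono_iff_injective _).2 (hinj ξ hmem)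
      refine IsZero.of_mono_eq_zero ((EtCoh.stalk ξ).map (kernel.ι κ)) ?_
      rw [← cancel_mono ((EtCoh.stalk ξ).map κ), zero_comp, ← Functor.map_comp, kernel.condition,
        Functor.map_zero]
  exact ⟨κ, ‹Epi κ›, hκ, hcomm, hker⟩

/-- Artin–Schreier: extensions by zero of `ℤ/p`. -/
theorem above_extZero (d : ℕ)
    (hqc : ∀ M : T.Modules, Coh.IsQCoh M → ∀ q, d < q → Subsingleton (Coh.HH T M q)) (hp : p.Prime)
    (h0 : (p : Γ(T, ⊤)) = 0) :
    Van.Above (d + 1) ((EtShriek.extZero j).obj (EtCoh.const U (ZMod p))) := by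
  classical
  haveI : NeZero p := ⟨hp.ne_zero⟩
  let W : Closeds T := ⟨(Set.range j.base)ᶜ, j.isOpenEmbedding.isOpen_range.isClosed_compl⟩
  let I := Scheme.IdealSheafData.vanishingIdeal W
  let i := I.subschemeι
  have hr : Set.range i.base = (Set.range j.base)ᶜ := CohBase.range_reduced W
  have h0Z : (p : Γ(I.subscheme, ⊤)) = 0 := by rw [← map_natCast i.appTop.hom, h0, map_zero]
  let a := as hp h0
  let aZ := as hp h0Z
  let ρ := GaClosed.rho i
  have hS := asSeq_shortExact hp h0
  have hP := Van.shortExact_push i (asSeq_shortExact hp h0Z)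
  obtain ⟨κ, hκe, hκ, hcomm, ⟨eker⟩⟩ := exists_kernel_iso j i hr hp h0 h0Z
  haveI := hκe
  let R : ShortComplex (EtCoh.Ab T) := ShortComplex.mk (kernel.ι κ) κ (kernel.condition κ)
  have hR : R.ShortExact := { exact := ShortComplex.exact_of_f_is_kernel _ (kernelIsKernel κ) }
  refine Van.of_iso eker ?_
  -- cohomological inputs
  have hOT : ∀ n, d < n → Subsingleton (EtCoh.H T (EtCoh.Ga T) n) := fun n hn => by
    obtain ⟨e, -⟩ := GaLin.exists_H_Ga_equiv T n
    haveI := hqc _ (inferInstance : (Coh.structureModule T).IsQuasicoherent) n hn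
    exact e.toEquiv.subsingleton
  have hOZ : ∀ n, d < n → Subsingleton (EtCoh.H I.subscheme (EtCoh.Ga I.subscheme) n) := fun n hn => by
    obtain ⟨e, -⟩ := GaLin.exists_H_Ga_equiv I.subscheme n
    haveI : (Coh.structureModule I.subscheme).IsQuasicoherent := inferInstance
    obtain ⟨e'⟩ := CohBase.nonempty_equiv_H_push (f := i) (Coh.structureModule I.subscheme) n
    haveI h2 : Subsingleton (Coh.HH T ((Scheme.Modules.pushforward i).obj (Coh.structureModule I.subscheme)) n) :=
      hqc _ (QCohMod.isQCoh_pushforward _ _) n hn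
    haveI : Subsingleton (Coh.HH I.subscheme (Coh.structureModule I.subscheme) n) :=
      @Equiv.subsingleton _ _ e'.symm.toEquiv h2
    exact e.toEquiv.subsingleton
  have hKT : Van.Above (d + 1) (kernel a) := above_kernel hp h0 d hOT
  have hKZ : Van.Above (d + 1) ((EtCoh.push i).obj (kernel aZ)) := Van.push i (above_kernel hp h0Z d hOZ)
  let φ : asSeq hp h0 ⟶ (asSeq hp h0Z).map (EtCoh.push i) :=
    ShortComplex.homMk κ ρ ρ hκ hcomm.symm
  let C := (constantSheaf T.smallEtaleTopology AddCommGrpCat.{u + 1}).obj (AddCommGrpCat.of (ULift.{u + 1} ℤ))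
  have hsurj : ∀ y : Ext C ((EtCoh.push i).obj (kernel aZ)) (d + 1),
      ∃ x : Ext C (kernel a) (d + 1), x.comp (Ext.mk₀ κ) (add_zero (d + 1)) = y := by
    intro y
    have h2 : Subsingleton (EtCoh.H T ((EtCoh.push i).obj (EtCoh.Ga I.subscheme)) (d + 1)) := by
      haveI := hOZ (d + 1) (by omega)
      exact (InjCoh.HofPush_bijective i _ (fun r hr => isZero_Rpush i _ r hr) (d + 1)).1.subsingleton
    obtain ⟨z, hz⟩ := Ext.covariant_sequence_exact₁ C hP y (h2.elim _ _) rfl
    obtain ⟨w, hw⟩ := GaClosed.surjective_rho W d (hqc _ (CohBase.isQCoh_closedIdeal W) (d + 1) (by omega)) z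
    refine ⟨EndoCmp.conn C hS d (show Ext C (asSeq hp h0).X₃ d from w), ?_⟩
    refine (EndoCmp.conn_naturality C hS hP φ d w).symm.trans (Eq.trans ?_ hz)
    exact congrArg (fun v : Ext C ((asSeq hp h0Z).map (EtCoh.push i)).X₃ d => v.comp hP.extClass rfl) hw
  intro q hq
  obtain ⟨m, rfl⟩ : ∃ m, q = m + 1 := ⟨q - 1, by omega⟩
  refine subsingleton_of_forall_eq 0 fun x => ?_
  obtain ⟨y, rfl⟩ := Ext.covariant_sequence_exact₁ C hR (show Ext C R.X₁ (m + 1) from x)
    ((hKT (m + 1) hq).elim _ _) rfl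
  obtain ⟨y', hy'⟩ : ∃ y' : Ext C R.X₂ m, y'.comp (Ext.mk₀ R.g) (add_zero m) = y := by
    rcases (show d + 1 = m ∨ d + 1 < m by omega) with rfl | hm
    · exact hsurj y
    · exact ⟨0, ((hKZ m hm).elim _ _)⟩
  exact (EndoCmp.conn_eq_zero_iff C hR m y).2 ⟨y', hy'⟩

end Groth.Misc3Cdp.ASExtZero
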