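import Groth.Agent.Misc3Cdp.Trivial
import Groth.Agent.Misc3Cdp.ASExtZero
import Groth.Agent.Misc3Zar.ArtinSchreierVanish
import Groth.Agent.Misc3Zar.AffineVanish
import Groth.Agent.S0007

/-!
# Affine schemes in characteristic p: finite locally constant p-torsion sheaves become cohomologically trivial in
degrees ≥ 2 on finite étale covers
-/

set_option autoImplicit false
set_option backward.isDefEq.respectTransparency.types false
set_option linter.style.haveILetI false

universe u

open CategoryTheory CategoryTheory.Limits AlgebraicGeometry Opposite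

namespace Groth.Misc3Cdp.AffKPi1

open Groth.EtaleBase Groth.Misc3Zar Groth.EtaleDeep.Cons

attribute [local instance] Groth.EtaleBase.InjCoh.jCont

variable {p : ℕ}

/-- All affine pullbacks have cohomological dimension one. -/
def Good (T : Scheme.{u}) (B : EtCoh.Ab T) : Prop :=
  ∀ (T' : Scheme.{u}) (f : T' ⟶ T), IsAffine T' → Van.Above 1 ((EtCoh.pull f).obj B)

theorem Good.pull {T T' : Scheme.{u}} {B : EtCoh.Ab T} (h : Good T B) (f : T' ⟶ T) :
    Good T' ((EtCoh.pull f).obj B) := fun T'' g hT'' =>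
  Van.of_iso ((EtCore.pullComp g f).app B) (h T'' (g ≫ f) hT'')

theorem Good.of_iso {T : Scheme.{u}} {B B' : EtCoh.Ab T} (e : B ≅ B') (h : Good T B) : Good T B' :=
  fun T' f hT' => Van.of_iso ((EtCoh.pull f).mapIso e) (h T' f hT')

theorem Good.of_isZero {T : Scheme.{u}} {B : EtCoh.Ab T} (h : IsZero B) : Good T B := fun T' f _ => by
  haveI : (EtCoh.pull f).Additive := Adjunction.left_adjoint_additive (EtCoh.pullPushAdj f)
  exact Van.of_isZero (Functor.map_isZero _ h)

theorem Good.ext {T : Scheme.{u}} {S : ShortComplex (EtCoh.Ab T)} (hS : S.ShortExact) (h₁ : Good T S.X₁)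
    (h₃ : Good T S.X₃) : Good T S.X₂ := fun T' f hT' => by
  haveI : (EtCoh.pull f).Additive := Adjunction.left_adjoint_additive (EtCoh.pullPushAdj f)
  haveI : PreservesColimitsOfSize.{0, 0} (EtCoh.pull f) := (EtCoh.pullPushAdj f).leftAdjoint_preservesColimits
  exact Van.of_ext (hS.map_of_exact (EtCoh.pull f)) (h₁ T' f hT') (h₃ T' f hT')

theorem good_const (hp : p.Prime) {T : Scheme.{u}} (h0 : (p : Γ(T, ⊤)) = 0) :
    Good T (EtCoh.const T (ZMod p)) := fun T' f hT' => by
  haveI := hT'
  have h0' : (p : Γ(T', ⊤)) = 0 := by rw [← map_natCast f.appTop.hom, h0, map_zero]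
  obtain ⟨e⟩ := AS.nonempty_kernel_iso_const p hp h0'
  refine Van.of_iso (e ≪≫ (EtCore.pullConst f (ZMod p)).symm) (ASExtZero.above_kernel hp h0' 0 fun n hn => ?_)
  obtain ⟨e', -⟩ := GaLin.exists_H_Ga_equiv T' n
  haveI : (Coh.structureModule T').IsQuasicoherent := inferInstance
  haveI : Coh.IsQCoh (Coh.structureModule T') := (inferInstance : (Coh.structureModule T').IsQuasicoherent)
  haveI : Subsingleton (Coh.HH T' (Coh.structureModule T') n) :=
    Groth.Agent.S0007.result T' _ n hn
  exact e'.toEquiv.subsingleton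

theorem good_of_hasFilt {T : Scheme.{u}} {Z : EtCoh.Ab T} (hZ : Good T Z) :
    ∀ {n : ℕ} {B : EtCoh.Ab T}, Trivial.HasFilt Z B n → Good T B := by
  intro n
  induction n with
  | zero =>
    rintro B ⟨E, φ, h0, ⟨e⟩, -⟩
    exact Good.of_isZero (h0.of_iso e.symm)
  | succ n ih =>
    rintro B ⟨E, φ, h0, ⟨e⟩, hs⟩
    obtain ⟨hm, ⟨ec⟩⟩ := hs n (Nat.lt_succ_self n)
    let S := ShortComplex.mk (φ n) (cokernel.π (φ n)) (cokernel.condition _)
    have hS : S.ShortExact :=
      { exact := ShortComplex.exact_of_g_is_cokernel _ (cokernelIsCokernel _) }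
    exact (Good.ext hS (ih ⟨E, φ, h0, ⟨Iso.refl _⟩, fun i hi => hs i (by omega)⟩)
      (hZ.of_iso ec.symm)).of_iso e

theorem surjective_of_connected {T X : Scheme.{u}} [ConnectedSpace T] [ConnectedSpace X] (f : T ⟶ X) [IsFinite f]
    [Etale f] : Surjective f := by
  refine ⟨Set.range_eq_univ.1 (IsClopen.eq_univ ⟨f.isClosedMap.isClosed_range, f.isOpenMap.isOpen_range⟩ ?_)⟩
  exact Set.range_nonempty _

/-- Finite locally constant sheaves killed by a power of `p` become good on a finite étale cover. -/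
theorem exists_cover [hp : Fact p.Prime] :
    ∀ (h : ℕ) (X : Scheme.{u}) [ConnectedSpace X] (G : EtCoh.Ab X), (p : Γ(X, ⊤)) = 0 →
      EtCoh.IsFiniteLocallyConstant G → EtCoh.KilledBy (p ^ h) G →
      ∃ (T : Scheme.{u}) (f : T ⟶ X) (_ : IsFinite f) (_ : Etale f) (_ : ConnectedSpace T),
        Good T ((EtCoh.pull f).obj G) := by
  intro h
  induction h with
  | zero =>
    intro X _ G _ _ hk
    have hz : IsZero G := (IsZero.iff_id_eq_zero G).2 (by
      simpa using ConstSub.nsmul_id_of_killedBy hk)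
    refine ⟨X, 𝟙 X, inferInstance, inferInstance, inferInstance, Good.of_isZero ?_⟩
    haveI : (EtCoh.pull (𝟙 X)).Additive := Adjunction.left_adjoint_additive (EtCoh.pullPushAdj (𝟙 X))
    exact Functor.map_isZero _ hz
  | succ h ih =>
    intro X _ G h0 hG hk
    let ι := kernel.ι (p • 𝟙 G)
    have hK : EtCoh.KilledBy p (kernel (p • 𝟙 G)) := ConstSub.killedBy_of_nsmul_id' (by
      rw [← cancel_mono ι, zero_comp, Preadditive.nsmul_comp, Category.id_comp,
        ← Category.comp_id ι, ← Preadditive.comp_nsmul]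
      exact kernel.condition _)
    have hpow := ConstSub.nsmul_id_of_killedBy hk
    let l : G ⟶ kernel (p • 𝟙 G) := kernel.lift _ (p ^ h • 𝟙 G) (by
      rw [Preadditive.comp_nsmul, Category.comp_id, smul_smul, ← pow_succ', hpow])
    have hQ : EtCoh.KilledBy (p ^ h) (cokernel ι) := ConstSub.killedBy_of_nsmul_id' (by
      rw [← cancel_epi (cokernel.π ι), comp_zero, Preadditive.comp_nsmul, Category.comp_id,
        ← Category.id_comp (cokernel.π ι), ← Preadditive.nsmul_comp,
        show p ^ h • 𝟙 G = l ≫ ι from (kernel.lift_ι _ _ _).symm, Category.assoc, cokernel.condition,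
        comp_zero])
    have hKlc : EtCoh.IsFiniteLocallyConstant (kernel (p • 𝟙 G)) := LocConst.isFLC_kernel _ hG hG
    have hQlc : EtCoh.IsFiniteLocallyConstant (cokernel ι) := LocConst.isFLC_cokernel _ hKlc hG
    obtain ⟨x⟩ := (inferInstance : Nonempty ↥X)
    obtain ⟨Ω, _, _, ξ, -⟩ := Groth.Pi1FEt.exists_geomPoint x
    obtain ⟨T, f, hff, hfe, hTc, d, -, -, m, hm⟩ := Trivial.exists_filtration (p := p) _ X _ hKlc hK Ω ξ le_rfl
    have h0T : (p : Γ(T, ⊤)) = 0 := by rw [← map_natCast f.appTop.hom, h0, map_zero]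
    obtain ⟨T', f', hff', hfe', hTc', hgood⟩ := ih T ((EtCoh.pull f).obj (cokernel ι)) h0T
      (isFLC_pull f hQlc) (ConstSub.killedBy_pull f hQ)
    refine ⟨T', f' ≫ f, inferInstance, inferInstance, hTc', Good.of_iso ((EtCore.pullComp f' f).app G).symm ?_⟩
    let S := ShortComplex.mk ι (cokernel.π ι) (cokernel.condition ι)
    have hS : S.ShortExact := { exact := ShortComplex.exact_of_g_is_cokernel _ (cokernelIsCokernel _) }
    haveI : ∀ {A B : Scheme.{u}} (a : A ⟶ B), (EtCoh.pull a).Additive :=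
      fun a => Adjunction.left_adjoint_additive (EtCoh.pullPushAdj a)
    haveI : ∀ {A B : Scheme.{u}} (a : A ⟶ B), PreservesColimitsOfSize.{0, 0} (EtCoh.pull a) :=
      fun a => (EtCoh.pullPushAdj a).leftAdjoint_preservesColimits
    exact Good.ext ((hS.map_of_exact (EtCoh.pull f)).map_of_exact (EtCoh.pull f'))
      ((good_of_hasFilt (good_const hp.out h0T) hm).pull f') hgood

end Groth.Misc3Cdp.AffKPi1
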