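import Groth.Agent.EtaleBase.Recollement
import Groth.Agent.EtaleBase.PushEssImage
import Mathlib.CategoryTheory.Limits.Preserves.Shapes.Biproducts

/-!
# A sheaf is the sum of its parts on finitely many disjoint closed subschemes covering the space
-/

set_option autoImplicit false
set_option backward.isDefEq.respectTransparency.types false
set_option linter.style.haveILetI false

universe u

open CategoryTheory CategoryTheory.Limits AlgebraicGeometry Opposite

namespace Groth.Misc3Cdp.ClopenSum

open Groth.EtaleBase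

variable {X : Scheme.{u}} {n : ℕ} (W : Fin n → Scheme.{u}) (i : ∀ k, W k ⟶ X) [∀ k, IsClosedImmersion (i k)]

/-- The part on the `k`-th piece. -/
noncomputable abbrev piece (F : EtCoh.Ab X) (k : Fin n) : EtCoh.Ab X :=
  (EtCoh.push (i k)).obj ((EtCoh.pull (i k)).obj F)

/-- The map to the sum of the parts is an isomorphism. -/
theorem isIso_lift (hdisj : ∀ k l (a : W k) (b : W l), (i k).base a = (i l).base b → k = l)
    (hcov : ∀ x : X, ∃ k a, (i k).base a = x) (F : EtCoh.Ab X) :
    IsIso (biproduct.lift fun k => (EtCoh.pullPushAdj (i k)).unit.app F : F ⟶ ⨁ piece W i F) := by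
  classical
  refine isIso_of_exists_stalk _ fun x => ?_
  let Ω := AlgebraicClosure (X.residueField x)
  let ξ : Spec (CommRingCat.of Ω) ⟶ X :=
    Spec.map (CommRingCat.ofHom (algebraMap (X.residueField x) Ω)) ≫ X.fromSpecResidueField x
  have hx : ξ.base default = x := by
    rw [Scheme.Hom.comp_apply]
    exact X.fromSpecResidueField_apply x _
  refine ⟨Ω, inferInstance, inferInstance, ξ, hx, ?_⟩
  obtain ⟨k, a, ha⟩ := hcov x
  haveI := isIso_stalk_unit_closedImmersion (i k) ξ (hx.trans ha.symm ▸ ⟨a, rfl⟩) F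
  have hz : ∀ l, l ≠ k → IsZero ((EtCoh.stalk ξ).obj (piece W i F l)) := fun l hl =>
    isZero_stalk_push (i l) (i l).isClosedEmbedding.isClosed_range ξ (fun ⟨b, hb⟩ =>
      hl (hdisj l k b a (hb.trans (hx.trans ha.symm)))) _
  have h2 : (EtCoh.stalk ξ).map (biproduct.π (piece W i F) k) ≫ (EtCoh.stalk ξ).map (biproduct.ι (piece W i F) k) =
      𝟙 _ := by
    rw [← Functor.map_comp, ← CategoryTheory.Functor.map_id, ← biproduct.total, Functor.map_sum,
      Finset.sum_eq_single k]
    · intro l _ hl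
      rw [Functor.map_comp, (hz l hl).eq_of_tgt ((EtCoh.stalk ξ).map (biproduct.π (piece W i F) l)) 0, zero_comp]
    · simp
  haveI : IsIso ((EtCoh.stalk ξ).map (biproduct.π (piece W i F) k)) :=
    ⟨(EtCoh.stalk ξ).map (biproduct.ι (piece W i F) k), h2,
      by rw [← Functor.map_comp, biproduct.ι_π_self, CategoryTheory.Functor.map_id]⟩
  haveI : IsIso ((EtCoh.stalk ξ).map (biproduct.lift fun k => (EtCoh.pullPushAdj (i k)).unit.app F :
      F ⟶ ⨁ piece W i F) ≫ (EtCoh.stalk ξ).map (biproduct.π (piece W i F) k)) := by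
    rw [← Functor.map_comp, biproduct.lift_π]
    infer_instance
  haveI := IsIso.of_isIso_comp_right ((EtCoh.stalk ξ).map (biproduct.lift fun k =>
    (EtCoh.pullPushAdj (i k)).unit.app F : F ⟶ ⨁ piece W i F)) ((EtCoh.stalk ξ).map (biproduct.π (piece W i F) k))
  exact (ConcreteCategory.isIso_iff_bijective _).1 inferInstance

/-- Each part is a retract. -/
theorem exists_retract (hdisj : ∀ k l (a : W k) (b : W l), (i k).base a = (i l).base b → k = l)
    (hcov : ∀ x : X, ∃ k a, (i k).base a = x) (F : EtCoh.Ab X) (k : Fin n) :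
    ∃ (s : piece W i F k ⟶ F) (r : F ⟶ piece W i F k), s ≫ r = 𝟙 _ := by
  haveI := isIso_lift W i hdisj hcov F
  refine ⟨biproduct.ι _ k ≫ inv (biproduct.lift fun l => (EtCoh.pullPushAdj (i l)).unit.app F :
      F ⟶ ⨁ piece W i F), biproduct.lift (fun l => (EtCoh.pullPushAdj (i l)).unit.app F) ≫ biproduct.π _ k, ?_⟩
  erw [Category.assoc, IsIso.inv_hom_id_assoc]
  exact biproduct.ι_π_self _ _

end Groth.Misc3Cdp.ClopenSum
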