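import Groth.Agent.Misc3Cdp.SylowCover
import Groth.Agent.EtaleDeep.Cons.PullLC
import Groth.Agent.Pi1Etale.EqLocus

/-!
# A nowhere vanishing section gives a constant subsheaf
-/

set_option autoImplicit false
set_option backward.isDefEq.respectTransparency.types false
set_option linter.style.haveILetI false

universe u

open CategoryTheory CategoryTheory.Limits AlgebraicGeometry Opposite

namespace Groth.Misc3Cdp.ConstSub

open Groth.EtaleBase Groth.EtaleBase.LocConst SylowCover

variable {X : Scheme.{u}}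

lemma nsmul_id_of_killedBy {p : ℕ} {G : EtCoh.Ab X} (h : EtCoh.KilledBy p G) : p • 𝟙 G = 0 := by
  apply CategoryTheory.ObjectProperty.hom_ext
  ext U s
  have key : ∀ n : ℕ, (n • 𝟙 G : G ⟶ G).hom.app U s = n • (show G.obj.obj U from s) := fun n => by
    induction n with
    | zero => rw [zero_smul, zero_smul]; rfl
    | succ n ih => rw [succ_nsmul, succ_nsmul, ← ih]; rfl
  exact (key p).trans (h U.unop s)

lemma killedBy_of_nsmul_id' {p : ℕ} {G : EtCoh.Ab X} (h : p • 𝟙 G = 0) : EtCoh.KilledBy p G := fun U s => by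
  have key : ∀ n : ℕ, (n • 𝟙 G : G ⟶ G).hom.app (op U) s = n • (show G.obj.obj (op U) from s) := fun n => by
    induction n with
    | zero => rw [zero_smul, zero_smul]; rfl
    | succ n ih => rw [succ_nsmul, succ_nsmul, ← ih]; rfl
  rw [← key p, h]
  rfl

lemma killedBy_pull {T : Scheme.{u}} (f : T ⟶ X) {p : ℕ} {G : EtCoh.Ab X} (h : EtCoh.KilledBy p G) :
    EtCoh.KilledBy p ((EtCoh.pull f).obj G) :=
  killedBy_of_nsmul_id' (by rw [← CategoryTheory.Functor.map_id, ← Functor.map_nsmul, nsmul_id_of_killedBy h,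
    Functor.map_zero])

lemma killedBy_cokernel {p : ℕ} {F G : EtCoh.Ab X} (φ : F ⟶ G) (h : EtCoh.KilledBy p G) :
    EtCoh.KilledBy p (cokernel φ) :=
  killedBy_of_nsmul_id' ((cancel_epi (cokernel.π φ)).1 (by
    rw [Preadditive.comp_nsmul, Category.comp_id, comp_zero, ← Category.id_comp (cokernel.π φ),
      ← Preadditive.nsmul_comp, nsmul_id_of_killedBy h, zero_comp]))

/-- On a connected étale scheme, a section of a sheaf represented by a finite étale scheme with one nonzero
germ has only nonzero germs. -/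
theorem germ_ne_zero {G : EtCoh.Ab X} {U : X.Etale}
    (e : G.obj ⋙ forget AddCommGrpCat.{u + 1} ≅ yoneda.obj U ⋙ uliftFunctor.{u + 1}) [IsFinite U.hom]
    {W : X.Etale} [ConnectedSpace ↥W.left] (s : G.obj.obj (op W))
    {Ω : Type u} [Field Ω] [IsSepClosed Ω] (ξ : Spec (CommRingCat.of Ω) ⟶ X)
    (t : (Scheme.pointSmallEtale ξ).fiber.obj W) (h : germ ξ G W t s ≠ 0)
    {Ω' : Type u} [Field Ω'] [IsSepClosed Ω'] (η : Spec (CommRingCat.of Ω') ⟶ X)
    (t' : (Scheme.pointSmallEtale η).fiber.obj W) : germ η G W t' s ≠ 0 := by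
  intro h0
  haveI : Etale U.hom := U.prop
  let g := homOf e s
  let g₀ := homOf e (0 : G.obj.obj (op W))
  have h1 : (Scheme.pointSmallEtale η).fiber.map g t' = (Scheme.pointSmallEtale η).fiber.map g₀ t' := by
    apply (bijective_germUniv e η).1
    rw [← germ_secOf, ← germ_secOf, secOf_homOf, secOf_homOf, h0, map_zero]
  have h2 : g = g₀ := by
    apply MorphismProperty.Over.Hom.ext
    exact Pi1Etale.eq_of_comp_eq_of_connected U.hom g.left g₀.left
      ((MorphismProperty.Over.w g).trans (MorphismProperty.Over.w g₀).symm) (T := Spec (CommRingCat.of Ω'))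
      (show Spec (CommRingCat.of Ω') ⟶ W.left from t'.left) (congrArg (·.left) h1)
  have h3 : s = 0 := by rw [← secOf_homOf e s, ← secOf_homOf e (0 : G.obj.obj (op W))]; exact congrArg _ h2
  exact h (by rw [h3, map_zero])

/-- The section of the inverse image defined by a section over the étale scheme itself. -/
noncomputable def diagHom {T : Scheme.{u}} (f : T ⟶ X) [Etale f] :
    EtCoh.top T ⟶ (EtCoh.bc f).obj (Scheme.Etale.mk f) :=
  MorphismProperty.Over.homMk (pullback.lift (𝟙 T) (𝟙 T) rfl) (pullback.lift_snd _ _ _)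

theorem exists_section {T : Scheme.{u}} (f : T ⟶ X) [Etale f] {G : EtCoh.Ab X}
    (s : G.obj.obj (op (Scheme.Etale.mk f)))
    (h : ∀ {Ω : Type u} [Field Ω] [IsSepClosed Ω] (η : Spec (CommRingCat.of Ω) ⟶ X)
      (t : (Scheme.pointSmallEtale η).fiber.obj (Scheme.Etale.mk f)), germ η G _ t s ≠ 0) :
    ∃ σ : ((EtCoh.pull f).obj G).obj.obj (op (EtCoh.top T)),
      ∀ {Ω : Type u} [Field Ω] [IsSepClosed Ω] (η : Spec (CommRingCat.of Ω) ⟶ T)
        (t : (Scheme.pointSmallEtale η).fiber.obj (EtCoh.top T)),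
        germ η ((EtCoh.pull f).obj G) (EtCoh.top T) t σ ≠ 0 := by
  refine ⟨((EtCoh.pull f).obj G).obj.map (diagHom f).op
    (((EtCoh.pullPushAdj f).unit.app G).hom.app (op (Scheme.Etale.mk f)) s), fun {Ω} _ _ η t => ?_⟩
  let t' : (Scheme.pointSmallEtale (η ≫ f)).fiber.obj (Scheme.Etale.mk f) := Over.homMk η rfl
  have ht : (Scheme.pointSmallEtale η).fiber.map (diagHom f) t = pushLift f η rfl (Scheme.Etale.mk f) t' := by
    have ht0 : t.left = η := (Category.comp_id _).symm.trans (Over.w t)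
    refine Over.OverMorphism.ext ?_
    show t.left ≫ pullback.lift (𝟙 T) (𝟙 T) rfl = pullback.lift η η _
    rw [ht0]
    apply pullback.hom_ext
    · rw [Category.assoc, pullback.lift_fst, pullback.lift_fst]; exact Category.comp_id η
    · rw [Category.assoc, pullback.lift_snd, pullback.lift_snd]; exact Category.comp_id η
  rw [germ_res, ht, ← stalkPullIso_germ]
  intro h0
  refine h (η ≫ f) t' ?_
  apply ((ConcreteCategory.isIso_iff_bijective ((stalkPullIso f η).hom.app G)).1 inferInstance).1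
  exact h0.trans (map_zero _).symm

/-- The morphism from the constant sheaf given by a homomorphism to the global sections. -/
theorem exists_hom_const {M : Type} [AddCommGroup M] {G : EtCoh.Ab X}
    (ψ : ULift.{u + 1} M →+ G.obj.obj (op (EtCoh.top X))) :
    ∃ φ : EtCoh.const X M ⟶ G, ∀ a, φ.hom.app (op (EtCoh.top X))
      (((CategoryTheory.toSheafify X.smallEtaleTopology
        ((Functor.const X.Etaleᵒᵖ).obj (AddCommGrpCat.of (ULift.{u + 1} M)))).app (op (EtCoh.top X))).hom a) =
        ψ a := by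
  let φ : EtCoh.const X M ⟶ G := ((EtCore.constAdj X).homEquiv _ G).symm (AddCommGrpCat.ofHom ψ)
  have h1 : (EtCore.constAdj X).homEquiv _ G φ = AddCommGrpCat.ofHom ψ :=
    Equiv.apply_symm_apply _ _
  refine ⟨φ, fun a => ?_⟩
  rw [Adjunction.homEquiv_unit] at h1
  refine Eq.trans ?_ (ConcreteCategory.congr_hom h1 a)
  simp [EtCore.constAdj, constantSheafAdj, Adjunction.comp]
  rfl

/-- A nowhere vanishing global section of a sheaf killed by `p` gives a constant subsheaf `ℤ/p`. -/
theorem exists_mono_zmod {p : ℕ} [hp : Fact p.Prime] {G : EtCoh.Ab X} (hG : EtCoh.KilledBy p G)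
    (σ : G.obj.obj (op (EtCoh.top X)))
    (hσ : ∀ {Ω : Type u} [Field Ω] [IsSepClosed Ω] (η : Spec (CommRingCat.of Ω) ⟶ X)
      (t : (Scheme.pointSmallEtale η).fiber.obj (EtCoh.top X)), germ η G (EtCoh.top X) t σ ≠ 0) :
    ∃ φ : EtCoh.const X (ZMod p) ⟶ G, Mono φ := by
  let ψ₀ : ZMod p →+ G.obj.obj (op (EtCoh.top X)) :=
    ZMod.lift p ⟨zmultiplesHom _ σ, by
      show ((p : ℤ) • σ) = 0
      rw [natCast_zsmul]
      exact hG _ σ⟩
  let ψ : ULift.{u + 1} (ZMod p) →+ G.obj.obj (op (EtCoh.top X)) :=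
    ψ₀.comp AddEquiv.ulift.toAddMonoidHom
  obtain ⟨φ, hφ⟩ := exists_hom_const ψ
  refine ⟨φ, mono_of_stalk_injective _ fun x => ?_⟩
  obtain ⟨t, -⟩ := exists_fiber_of_point (geomPoint x) (EtCoh.top X) x (geomPoint_apply _ _).symm
  refine (injective_iff_map_eq_zero _).2 fun z hz => ?_
  obtain ⟨a, rfl⟩ := (exists_stalkBij_const (EtCoh.top X) (ULift.{u + 1} (ZMod p)) _ _ _ (geomPoint x) t).2 z
  simp only at hz ⊢
  erw [germ_map, hφ] at hz
  have ha : a = 0 := by
    by_contra ha
    apply hσ (geomPoint x) t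
    have h3 : (a.down.val • germ (geomPoint x) G (EtCoh.top X) t σ) = 0 := by
      rw [← map_nsmul]
      refine (congrArg _ ?_).trans hz
      show a.down.val • σ = ψ₀ a.down
      conv_rhs => rw [← ZMod.natCast_zmod_val a.down, show ((a.down.val : ℕ) : ZMod p) = ((a.down.val : ℤ) : ZMod p) by simp]
      rw [ZMod.lift_coe]
      exact (natCast_zsmul _ _).symm
    have hp' : p • germ (geomPoint x) G (EtCoh.top X) t σ = 0 := by rw [← map_nsmul, hG, map_zero]
    have hco : Nat.Coprime a.down.val p := by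
      refine Nat.Coprime.symm ((Nat.Prime.coprime_iff_not_dvd hp.out).2 fun hd => ha ?_)
      exact ULift.ext _ _ ((ZMod.val_eq_zero _).1 (Nat.eq_zero_of_dvd_of_lt hd (ZMod.val_lt _)))
    exact AddMonoid.addOrderOf_eq_one_iff.1 (Nat.eq_one_of_dvd_coprimes hco
      (addOrderOf_dvd_of_nsmul_eq_zero h3) (addOrderOf_dvd_of_nsmul_eq_zero hp'))
  subst ha
  simp

end Groth.Misc3Cdp.ConstSub
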