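import Groth.Agent.Variety2.DimFiber

/-!
# Dimension of dense open subschemes over a field
-/

set_option autoImplicit false
set_option linter.style.haveILetI false

universe u

open CategoryTheory AlgebraicGeometry TopologicalSpace

namespace Groth.Misc3Cdp.Dense

open Groth.Variety2

variable {k : Type u} [Field k] {U Y : Scheme.{u}} (f : Y ⟶ Spec (CommRingCat.of k)) [LocallyOfFiniteType f]
  [QuasiCompact f] (j : U ⟶ Y) [IsOpenImmersion j]

include f in
/-- Every point is a specialisation of a point of a dense open. -/
theorem exists_generizing (hd : DenseRange j.base) (y : Y) : ∃ η ∈ Set.range j.base, η ⤳ y := by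
  haveI : NoetherianSpace Y := Dim.noetherianSpace_of f
  let C := irreducibleComponent y
  have hC : C ∈ irreducibleComponents Y := irreducibleComponent_mem_irreducibleComponents y
  have hCc : IsClosed C := isClosed_irreducibleComponent
  obtain ⟨η, hη⟩ := QuasiSober.sober (isIrreducible_irreducibleComponent (x := y)) hCc
  refine ⟨η, ?_, hη.specializes mem_irreducibleComponent⟩
  obtain ⟨o, ho, hne, hoC⟩ := NoetherianSpace.exists_isOpen_nonempty_subset_irreducibleComponent C hC
  obtain ⟨w, hwo, hwj⟩ := hd.inter_open_nonempty o ho hne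
  exact (hη.specializes (hoC hwo)).mem_open j.isOpenEmbedding.isOpen_range hwj

include f in
/-- A dense open subscheme has the same dimension. -/
theorem dim_le (hd : DenseRange j.base) : topologicalKrullDim Y ≤ topologicalKrullDim U := by
  rw [Dim.dim_eq_iSup_height Y, Dim.dim_eq_iSup_height U]
  refine iSup_le fun y => ?_
  obtain ⟨η, ⟨u, rfl⟩, hy⟩ := exists_generizing f j hd y
  refine le_iSup_of_le u (WithBot.coe_le_coe.2 ((Order.height_mono (Scheme.le_iff_specializes.2 hy)).trans ?_))
  exact Dim.height_image_le (j ≫ f) f j rfl u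

omit [LocallyOfFiniteType f] [QuasiCompact f] in
theorem strictMono_closed {Z : Scheme.{u}} (i : Z ⟶ Y) [IsClosedImmersion i] : StrictMono (i : Z → Y) := by
  intro a b hab
  refine lt_iff_le_not_ge.2 ⟨(Scheme.le_iff_specializes.1 hab.le).map i.continuous, fun h => hab.not_ge ?_⟩
  exact Scheme.le_iff_specializes.2 (i.isClosedEmbedding.isInducing.specializes_iff.1 h)

include f in
/-- The complement of a dense open has smaller dimension. -/
theorem height_add_one_le (hd : DenseRange j.base) {n : ℕ} (hn : topologicalKrullDim Y ≤ n) {z : Y}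
    (hz : z ∉ Set.range j.base) : Order.height z + 1 ≤ n := by
  obtain ⟨η, hη, hy⟩ := exists_generizing f j hd z
  have hne : z ≠ η := fun h => hz (h.symm ▸ hη)
  have hlt : z < η := lt_iff_le_not_ge.2 ⟨Scheme.le_iff_specializes.2 hy, fun h =>
    hne (Specializes.antisymm (Scheme.le_iff_specializes.1 h) hy).eq⟩
  refine (Order.height_add_one_le hlt).trans ?_
  rw [Dim.dim_eq_iSup_height Y] at hn
  exact WithBot.coe_le_coe.1 ((le_iSup _ η).trans hn)

include f in
/-- The complement of a dense open has smaller dimension. -/
theorem dim_compl_le (hd : DenseRange j.base) {Z : Scheme.{u}} (i : Z ⟶ Y) [IsClosedImmersion i]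
    (hr : ∀ z, i.base z ∉ Set.range j.base) {n : ℕ} (hn : topologicalKrullDim Y ≤ (n + 1 : ℕ)) :
    topologicalKrullDim Z ≤ n := by
  rw [Dim.dim_eq_iSup_height Z]
  refine iSup_le fun z => WithBot.coe_le_coe.2 ?_
  have h := height_add_one_le f j hd hn (hr z)
  rw [Nat.cast_add, Nat.cast_one, ENat.add_le_add_iff_right ENat.one_ne_top] at h
  exact (Order.height_le_height_apply_of_strictMono _ (strictMono_closed i) z).trans h

include f in
/-- The complement of a dense open in dimension zero is empty. -/
theorem isEmpty_compl (hd : DenseRange j.base) {Z : Scheme.{u}} (i : Z ⟶ Y)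
    (hr : ∀ z, i.base z ∉ Set.range j.base) (hn : topologicalKrullDim Y ≤ (0 : ℕ)) : IsEmpty Z :=
  ⟨fun z => by simpa using height_add_one_le f j hd hn (hr z)⟩

end Groth.Misc3Cdp.Dense
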