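import Groth.Agent.Misc3Cdp.Van
import Groth.Agent.Misc3Cdp.ClopenSum
import Groth.Agent.EtaleBase.PushExtZero
import Groth.Agent.EtPbc.ConsFiltration
import Groth.Agent.LocImm.FiniteFactor
import Groth.Agent.EtCd.FiniteEtaleTrace
import Groth.Agent.PiTopGen.Proper

/-!
# Constructible sheaves killed by p: reduction to extensions by zero of constant sheaves on finite schemes
-/

set_option autoImplicit false
set_option backward.isDefEq.respectTransparency.types false
set_option linter.style.haveILetI false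

universe u

open CategoryTheory CategoryTheory.Limits AlgebraicGeometry Opposite

namespace Groth.Misc3Cdp.Devissage

open Groth.EtaleBase

attribute [local instance] Groth.EtaleBase.InjCoh.jCont Van.additive_extZero

variable {X : Scheme.{u}} [IsNoetherian X] {p : ℕ} [hp : Fact p.Prime] {D : ℕ}

/-- The input: extensions by zero of `ℤ/p` on finite schemes over `X`. -/
def Hyp (X : Scheme.{u}) (p D : ℕ) : Prop :=
  ∀ (T : Scheme.{u}) (g : T ⟶ X) [IsFinite g] (U : Scheme.{u}) (j : U ⟶ T) [IsOpenImmersion j]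
    [EtShriek.JCont j], Van.Above D ((EtShriek.extZero j).obj (EtCoh.const U (ZMod p)))

/-- Composites of finite morphisms inside `phi`. -/
noncomputable def phiCompIso {T T' V : Scheme.{u}} (j : V ⟶ X) [Etale j] [EtShriek.JCont j] (h : T ⟶ V) (f : T' ⟶ T)
    (F : EtCoh.Ab T') : Van.phi j h ((EtCoh.push f).obj F) ≅ Van.phi j (f ≫ h) F :=
  (EtShriek.extZero j).mapIso ((EtCoh.pushComp h f).app F)

theorem above_phi_const (hyp : Hyp X p D) {T V : Scheme.{u}} (j : V ⟶ X) [IsOpenImmersion j] (h : T ⟶ V)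
    [IsFinite h] : Van.Above D (Van.phi j h (EtCoh.const T (ZMod p))) := by
  classical
  haveI : IsNoetherian V := PiTopGen.isNoetherian_source j
  haveI : IsNoetherian T := PiTopGen.isNoetherian_source h
  obtain ⟨T₀, jT, g, hjT, hg, hjg⟩ := Groth.LocImmersion.exists_isOpenImmersion_comp_isFinite (h ≫ j)
  haveI := hjT
  haveI := hg
  let P := pullback g j
  let j' : P ⟶ T₀ := pullback.fst g j
  let pr : P ⟶ V := pullback.snd g j
  haveI : IsNoetherian T₀ := PiTopGen.isNoetherian_source g
  haveI : IsFinite pr := MorphismProperty.pullback_snd g j ‹IsFinite g›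
  haveI : IsOpenImmersion j' := MorphismProperty.pullback_fst g j ‹IsOpenImmersion j›
  let l : T ⟶ P := pullback.lift jT h hjg
  have hlfst : l ≫ j' = jT := pullback.lift_fst _ _ _
  have hlsnd : l ≫ pr = h := pullback.lift_snd _ _ _
  haveI : IsFinite (l ≫ pr) := by rw [hlsnd]; infer_instance
  haveI : IsFinite l := IsFinite.of_comp l pr
  haveI : IsOpenImmersion (l ≫ j') := by rw [hlfst]; infer_instance
  haveI : IsOpenImmersion l := IsOpenImmersion.of_comp l j'
  haveI : IsClosedImmersion l := .of_isPreimmersion _ l.isClosedMap.isClosed_range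
  -- the complement of the image of `l`
  let C : P.Opens := ⟨(Set.range l.base)ᶜ, l.isClosedMap.isClosed_range.isOpen_compl⟩
  haveI : IsClosedImmersion C.ι :=
    .of_isPreimmersion _ (by rw [Scheme.Opens.range_ι]; exact l.isOpenEmbedding.isOpen_range.isClosed_compl)
  let W : Fin 2 → Scheme.{u} := ![T, C.toScheme]
  let i : ∀ k, W k ⟶ P := fun k => match k with
    | 0 => l
    | 1 => C.ι
  haveI : ∀ k, IsClosedImmersion (i k) := fun k => match k with
    | 0 => (inferInstance : IsClosedImmersion l)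
    | 1 => (inferInstance : IsClosedImmersion C.ι)
  have hC : ∀ c : C.toScheme, C.ι.base c ∉ Set.range l.base := fun c => by
    have h1 : C.ι.base c ∈ Set.range C.ι.base := ⟨c, rfl⟩
    rw [Scheme.Opens.range_ι] at h1
    exact h1
  obtain ⟨s, r, hsr⟩ := ClopenSum.exists_retract W i
    (fun k k' => by
      fin_cases k <;> fin_cases k'
      · exact fun _ _ _ => rfl
      · exact fun a b hab => absurd ⟨a, hab⟩ (hC b)
      · exact fun a b hab => absurd ⟨b, hab.symm⟩ (hC a)
      · exact fun _ _ _ => rfl)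
    (fun x => by
      by_cases hx : x ∈ Set.range l.base
      · exact ⟨0, hx⟩
      · obtain ⟨c, hc⟩ : x ∈ Set.range C.ι.base := by rw [Scheme.Opens.range_ι]; exact hx
        exact ⟨1, c, hc⟩)
    (EtCoh.const P (ZMod p)) 0
  let Φ := EtCoh.push pr ⋙ EtShriek.extZero j
  let e₁ : Van.phi j pr ((EtCoh.push l).obj ((EtCoh.pull l).obj (EtCoh.const P (ZMod p)))) ≅
      Van.phi j h (EtCoh.const T (ZMod p)) :=
    Φ.mapIso ((EtCoh.push l).mapIso (EtCore.pullConst l (ZMod p))) ≪≫ phiCompIso j pr l _ ≪≫
      eqToIso (by rw [hlsnd])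
  refine Van.of_iso e₁ (Van.of_retract (Φ.map s) (Φ.map r)
    ((Φ.map_comp _ _).symm.trans ((congrArg Φ.map hsr).trans (Φ.map_id _))) ?_)
  obtain ⟨e₂⟩ := Groth.EtaleBase.nonempty_push_extZero g j j' pr (IsPullback.of_hasPullback g j)
    (EtCoh.const P (ZMod p))
  exact Van.of_iso e₂ (Van.push g (hyp T₀ g P j'))

theorem above_phi_connected (hyp : Hyp X p D) {W V : Scheme.{u}} [ConnectedSpace W] (j : V ⟶ X) [IsOpenImmersion j]
    (c : W ⟶ V) [IsFinite c] (G : EtCoh.Ab W) (hG : EtCoh.IsFiniteLocallyConstant G)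
    (hk : EtCoh.KilledBy p G) : Van.Above D (Van.phi j c G) := by
  obtain ⟨x⟩ := (inferInstance : Nonempty ↥W)
  obtain ⟨Ω, _, _, ξ, -⟩ := Groth.Pi1FEt.exists_geomPoint x
  obtain ⟨T, f, hf, hfe, -, d, hd, hdeg, m, hm⟩ :=
    Trivial.exists_filtration (p := p) _ W G hG hk Ω ξ le_rfl
  obtain ⟨t, ht⟩ := Groth.EtCdFiniteTrace.exists_trace f hdeg
  obtain ⟨a, ha⟩ : ∃ a : ℕ, a * d ≡ 1 [MOD p] := by
    obtain ⟨a, -, ha⟩ := Nat.exists_mul_mod_eq_one_of_coprime (Nat.Coprime.symm hd) hp.out.one_lt
    exact ⟨a, by rw [Nat.ModEq, mul_comm, ha, Nat.one_mod_eq_one.2 hp.out.ne_one]⟩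
  have h0 : p • 𝟙 G = 0 := ConstSub.nsmul_id_of_killedBy hk
  have hid : (EtCoh.pullPushAdj f).unit.app G ≫ (a • t.app G) = 𝟙 G := by
    erw [Preadditive.comp_nsmul, ht G]
    rw [smul_smul, ← Nat.div_add_mod (a * d) p, ha, Nat.one_mod_eq_one.2 hp.out.ne_one, add_smul, one_smul,
      mul_smul, smul_comm, h0, smul_zero, zero_add]
  let Φ := EtCoh.push c ⋙ EtShriek.extZero j
  refine Van.of_retract (Φ.map ((EtCoh.pullPushAdj f).unit.app G)) (Φ.map (a • t.app G))
    ((Φ.map_comp _ _).symm.trans ((congrArg Φ.map hid).trans (Φ.map_id _))) ?_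
  exact Van.of_iso (phiCompIso j c f _).symm (Van.of_hasFilt j (f ≫ c) (above_phi_const hyp j (f ≫ c)) hm)

theorem above_phi (hyp : Hyp X p D) {W V : Scheme.{u}} [IsNoetherian W] (j : V ⟶ X) [IsOpenImmersion j]
    (c : W ⟶ V) [IsFinite c] (G : EtCoh.Ab W) (hG : EtCoh.IsFiniteLocallyConstant G)
    (hk : EtCoh.KilledBy p G) : Van.Above D (Van.phi j c G) := by
  classical
  haveI : Finite (_root_.ConnectedComponents W) := PiTopGen.finite_connectedComponents_of_noetherian W
  obtain ⟨n, ⟨e⟩⟩ := Finite.exists_equiv_fin (_root_.ConnectedComponents W)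
  choose w hw using fun k : Fin n => ConnectedComponents.surjective_coe (e.symm k)
  let O : Fin n → W.Opens := fun k =>
    ⟨connectedComponent (w k), (PiTopGen.isClopen_connectedComponent_of_noetherian (w k)).2⟩
  let i : ∀ k, (O k).toScheme ⟶ W := fun k => (O k).ι
  haveI : ∀ k, IsClosedImmersion (i k) := fun k => .of_isPreimmersion _ (by
    rw [Scheme.Opens.range_ι]; exact isClosed_connectedComponent)
  have hmem : ∀ k (a : (O k).toScheme), ConnectedComponents.mk ((i k).base a) = e.symm k := fun k a => by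
    rw [← hw k]
    refine ConnectedComponents.coe_eq_coe'.2 ?_
    have h1 : (O k).ι.base a ∈ Set.range (O k).ι.base := ⟨a, rfl⟩
    rw [Scheme.Opens.range_ι] at h1
    exact h1
  have hiso := ClopenSum.isIso_lift (fun k => (O k).toScheme) i
    (fun k k' a b hab => e.symm.injective (((hmem k a).symm.trans (congrArg ConnectedComponents.mk hab)).trans
      (hmem k' b)))
    (fun x => by
      obtain ⟨b, hb⟩ : x ∈ Set.range (i (e (ConnectedComponents.mk x))).base := by
        rw [Scheme.Opens.range_ι]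
        show x ∈ connectedComponent _
        rw [← ConnectedComponents.coe_eq_coe', hw, Equiv.symm_apply_apply]
      exact ⟨_, b, hb⟩) G
  let Φ := EtCoh.push c ⋙ EtShriek.extZero j
  haveI : (EtCoh.push c).Additive := (EtCoh.pullPushAdj c).right_adjoint_additive
  haveI : Φ.Additive := inferInstance
  refine Van.of_iso (Φ.mapIso (@asIso _ _ _ _ _ hiso)).symm
    (Van.of_iso (Φ.mapBiproduct _).symm (Van.biproduct _ fun k => ?_))
  haveI : ConnectedSpace ↥(O k).toScheme := PiTopGen.connectedSpace_compOpen (w k)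
  exact Van.of_iso (phiCompIso j c (i k) _).symm (above_phi_connected hyp j (i k ≫ c) _
    (Groth.EtaleDeep.Cons.isFLC_pull (i k) hG) (ConstSub.killedBy_pull (i k) hk))

/-- Constructible sheaves killed by `p`. -/
theorem above_constructible (hyp : Hyp X p D) (F : EtCoh.Ab X) (hF : EtPBC.IsConstructible F)
    (hk : EtCoh.KilledBy p F) : Van.Above D F := by
  obtain ⟨n, E, ι, h0, ⟨eF⟩, hs⟩ := Groth.EtPbc.ConsFiltration.exists_filtration F hF
  choose U W j hj c hc G π hz hcons hG hse using hs
  have hk' : ∀ k, p • 𝟙 (E k) = 0 := fun k => by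
    induction k using Fin.reverseInduction with
    | last =>
      rw [← cancel_mono eF.hom, Preadditive.nsmul_comp, Category.id_comp, zero_comp,
        ← Category.comp_id eF.hom, ← Preadditive.comp_nsmul, ConstSub.nsmul_id_of_killedBy hk, comp_zero]
    | cast k ih =>
      haveI : Mono (ι k) := (hse k).mono_f
      rw [← cancel_mono (ι k), Preadditive.nsmul_comp, Category.id_comp, zero_comp, ← Category.comp_id (ι k),
        ← Preadditive.comp_nsmul, ih, comp_zero]
  intro q hq
  suffices ∀ k, Van.Above D (E k) from Van.of_iso eF (this _) q hq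
  intro k
  induction k using Fin.induction with
  | zero => exact Van.of_isZero h0
  | succ k ih =>
    haveI := hj k
    haveI := hc k
    refine Van.of_ext (hse k) ih ?_
    haveI : IsNoetherian (U k) := PiTopGen.isNoetherian_source (j k)
    haveI : IsNoetherian (W k) := PiTopGen.isNoetherian_source (c k)
    refine above_phi hyp (j k) (c k) (G k) (hG k) (ConstSub.killedBy_of_nsmul_id' ?_)
    haveI : Epi (π k) := (hse k).epi_g
    haveI := (Groth.EtaleBase.push_fullyFaithful (c k)).2
    haveI : IsIso (EtShriek.extZeroAdj (j k)).unit :=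
      have := Groth.EtaleBase.isIso_extZero_unit (j k)
      NatIso.isIso_of_isIso_app _
    haveI := (EtShriek.extZeroAdj (j k)).fullyFaithfulLOfIsIsoUnit.faithful
    haveI : (EtCoh.push (c k)).Additive := (EtCoh.pullPushAdj (c k)).right_adjoint_additive
    apply (EtCoh.push (c k) ⋙ EtShriek.extZero (j k)).map_injective
    rw [Functor.map_nsmul, CategoryTheory.Functor.map_id, Functor.map_zero]
    rw [← cancel_epi (π k), Preadditive.comp_nsmul, comp_zero]
    erw [Category.comp_id]
    rw [← Category.id_comp (π k), ← Preadditive.nsmul_comp, hk', zero_comp]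

end Groth.Misc3Cdp.Devissage
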