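import Groth.Agent.Misc3Zar.GaLinear
import Groth.Agent.CohBase.IdealOfClosed
import Groth.Agent.CohBase.AffineVanishing
import Groth.Agent.EtaleBase.BaseChange0
import Groth.Agent.EtaleBase.RpushExact

/-!
# The additive group of a closed subscheme: surjectivity on cohomology in the top degree
-/

set_option autoImplicit false
set_option backward.isDefEq.respectTransparency.types false
set_option linter.style.haveILetI false

universe u

open CategoryTheory CategoryTheory.Limits AlgebraicGeometry Opposite TopologicalSpace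

noncomputable section

namespace Groth.Misc3Cdp.GaClosed

open Groth.Misc3Zar

variable {T Z : Scheme.{u}} (i : Z ⟶ T)

/-- The restriction `G_a → i_* G_a`. -/
def rho : EtCoh.Ga T ⟶ (EtCoh.push i).obj (EtCoh.Ga Z) :=
  ⟨{ app := fun U => AddCommGrpCat.uliftFunctor.{u + 1}.map
        (AddCommGrpCat.ofHom (pullback.fst U.unop.hom i).appTop.hom.toAddMonoidHom)
     naturality := fun U V g => by
       ext s
       obtain ⟨x⟩ := s
       change Γ(U.unop.left, ⊤) at x
       refine congrArg ULift.up ?_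
       have e : ((EtCoh.bc i).map g.unop).left ≫ pullback.fst U.unop.hom i =
           pullback.fst V.unop.hom i ≫ g.unop.left := pullback.lift_fst _ _ _
       exact (congrArg (fun q : pullback V.unop.hom i ⟶ U.unop.left => q.appTop x) e).symm }⟩

lemma affAcyclic_push [IsFinite i] (G : EtCoh.Ab Z) (hG : AffAcyclic G) :
    AffAcyclic ((EtCoh.push i).obj G) := by
  intro S hS q hq
  haveI : AlgebraicGeometry.Etale S.hom := S.prop
  let B : Z.Etale := (EtCoh.bc i).obj S
  let p' : B.left ⟶ S.left := pullback.fst S.hom i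
  have hsq : IsPullback B.hom p' i S.hom := (IsPullback.of_hasPullback S.hom i).flip
  haveI : IsFinite p' := MorphismProperty.of_isPullback hsq ‹IsFinite i›
  haveI : IsAffine B.left := isAffine_of_isAffineHom p'
  haveI := Groth.EtaleBase.isIso_baseChange0 i S.hom p' B.hom hsq G
  haveI h1 : Subsingleton (EtCoh.H B.left ((EtCoh.pull B.hom).obj G) q) := hG B ‹_› q hq
  have h2 : Subsingleton (EtCoh.H S.left ((EtCoh.push p').obj ((EtCoh.pull B.hom).obj G)) q) :=
    (Groth.EtaleBase.InjCoh.HofPush_bijective p' _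
      (fun r hr => Groth.EtaleBase.isZero_Rpush p' _ r hr) q).1.subsingleton
  exact @Equiv.subsingleton _ _ (((EtCoh.HF S.left q).mapIso
    (asIso (EtCoh.baseChange0 i S.hom p' B.hom hsq.w G))).addCommGroupIsoToAddEquiv.toEquiv) h2

/-- `i⁻¹ V → V ×_T Z`. -/
def toBc (V : T.Opens) : (i ⁻¹ᵁ V).toScheme ⟶ pullback V.ι i :=
  pullback.lift (i ∣_ V) (i ⁻¹ᵁ V).ι (morphismRestrict_ι i V)

instance (V : T.Opens) : IsIso (toBc i V) :=
  by
    have e : toBc i V = (isPullback_morphismRestrict i V).isoPullback.hom ≫ 𝟙 _ := by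
      rw [Category.comp_id]
      apply pullback.hom_ext
      · exact (pullback.lift_fst _ _ _).trans (IsPullback.isoPullback_hom_fst _).symm
      · exact (pullback.lift_snd _ _ _).trans (IsPullback.isoPullback_hom_snd _).symm
    rw [e]
    infer_instance

/-- Sections of `i_* G_a` over an open are functions on its preimage. -/
def pushSecEquiv (V : T.Opens) :
    ((EtCoh.push i).obj (EtCoh.Ga Z)).obj.obj (op ((EtZar.zarToEt T).obj V)) ≃+
      ULift.{u + 1} ((Coh.toAb ((Scheme.Modules.pushforward i).obj (Coh.structureModule Z))).obj.obj (op V)) :=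
  AddEquiv.ulift.trans
    ((((Scheme.Γ.mapIso (asIso (toBc i V)).op) ≪≫ (i ⁻¹ᵁ V).topIso).commRingCatIsoToRingEquiv.toAddEquiv :
      Γ(pullback V.ι i, ⊤) ≃+ Γ(Z, i ⁻¹ᵁ V)).trans AddEquiv.ulift.symm)

lemma toBc_natural {V W : T.Opens} (h : W ≤ V) :
    toBc i W ≫ ((EtCoh.bc i).map ((EtZar.zarToEt T).map (homOfLE h))).left =
      Z.homOfLE (i.preimage_mono h) ≫ toBc i V := by
  let q : pullback W.ι i ⟶ pullback V.ι i := ((EtCoh.bc i).map ((EtZar.zarToEt T).map (homOfLE h))).left
  have hq : q ≫ pullback.snd V.ι i = pullback.snd W.ι i := pullback.lift_snd _ _ _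
  have hsnd : ∀ U : T.Opens, toBc i U ≫ pullback.snd U.ι i = (i ⁻¹ᵁ U).ι := fun U => pullback.lift_snd _ _ _
  show toBc i W ≫ q = Z.homOfLE (i.preimage_mono h) ≫ toBc i V
  refine (cancel_mono (pullback.snd V.ι i)).1 ?_
  rw [Category.assoc, Category.assoc, hq, hsnd, hsnd, Scheme.homOfLE_ι]

lemma topIso_restrict (V : T.Opens) (x : Γ((V : Scheme.{u}), ⊤)) :
    (i ⁻¹ᵁ V).topIso.hom ((i ∣_ V).appTop x) = i.app V (V.topIso.hom x) := by
  rw [← ConcreteCategory.comp_apply, ← ConcreteCategory.comp_apply]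
  congr 2
  rw [morphismRestrict_appTop]
  erw [Category.assoc]
  rw [Scheme.Opens.topIso_hom, Scheme.Opens.topIso_hom]
  erw [← Functor.map_comp, i.naturality]
  rfl

lemma exists_zar_square [EtZar.ZarCont T] :
    ∃ (ψ : (EtZar.resZar T).obj (EtCoh.Ga T) ≅
        (Univ.liftF T.toTopCat).obj (Coh.toAb (Coh.structureModule T)))
      (ψ' : (EtZar.resZar T).obj ((EtCoh.push i).obj (EtCoh.Ga Z)) ≅
        (Univ.liftF T.toTopCat).obj (Coh.toAb ((Scheme.Modules.pushforward i).obj (Coh.structureModule Z)))),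
      (EtZar.resZar T).map (rho i) ≫ ψ'.hom =
        ψ.hom ≫ (Univ.liftF T.toTopCat).map ((SheafOfModules.toSheaf T.ringCatSheaf).map (CohBase.unitPush i)) := by
  let ψ : (EtZar.resZar T).obj (EtCoh.Ga T) ≅
      (Univ.liftF T.toTopCat).obj (Coh.toAb (Coh.structureModule T)) :=
    (sheafToPresheaf _ _).preimageIso (NatIso.ofComponents
      (fun V => AddEquiv.toAddCommGrpIso
        (X := ((EtZar.resZar T).obj (EtCoh.Ga T)).obj.obj V)
        (Y := ((Univ.liftF T.toTopCat).obj (Coh.toAb (Coh.structureModule T))).obj.obj V)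
        (GaLin.secEquiv V.unop))
      (fun {V W} g => by
        ext s
        exact congrArg ULift.up (GaLin.topIso_homOfLE g.unop.le s.down)))
  let ψ' : (EtZar.resZar T).obj ((EtCoh.push i).obj (EtCoh.Ga Z)) ≅
      (Univ.liftF T.toTopCat).obj (Coh.toAb ((Scheme.Modules.pushforward i).obj (Coh.structureModule Z))) :=
    (sheafToPresheaf _ _).preimageIso (NatIso.ofComponents
      (fun V => AddEquiv.toAddCommGrpIso
        (X := ((EtZar.resZar T).obj ((EtCoh.push i).obj (EtCoh.Ga Z))).obj.obj V)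
        (Y := ((Univ.liftF T.toTopCat).obj
          (Coh.toAb ((Scheme.Modules.pushforward i).obj (Coh.structureModule Z)))).obj.obj V)
        (pushSecEquiv i V.unop))
      (fun {V W} g => by
        ext s
        refine congrArg ULift.up ?_
        obtain ⟨t⟩ := s
        let V' : T.Opens := V.unop
        let W' : T.Opens := W.unop
        change Γ(pullback V'.ι i, ⊤) at t
        show (i ⁻¹ᵁ W.unop).topIso.hom
            ((((EtCoh.bc i).map ((EtZar.zarToEt T).map g.unop)).left.appTop ≫ (toBc i W.unop).appTop) t) =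
          Z.presheaf.map (homOfLE (i.preimage_mono g.unop.le)).op
            ((i ⁻¹ᵁ V.unop).topIso.hom ((toBc i V.unop).appTop t))
        have e := congrArg (fun q : (i ⁻¹ᵁ W').toScheme ⟶ pullback V'.ι i => q.appTop t)
          (toBc_natural i g.unop.le)
        exact (congrArg (fun c : Γ((i ⁻¹ᵁ W').toScheme, ⊤) => (i ⁻¹ᵁ W').topIso.hom c) e).trans
          (GaLin.topIso_homOfLE (i.preimage_mono g.unop.le) ((toBc i V').appTop t))))
  have hψ : ∀ V, ψ.hom.hom.app V = AddCommGrpCat.ofHom (GaLin.secEquiv V.unop).toAddMonoidHom := fun V => by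
    simp only [ψ, Functor.preimageIso_hom]
    exact congrArg (fun f => NatTrans.app f V) ((sheafToPresheaf _ _).map_preimage _)
  have hψ' : ∀ V, ψ'.hom.hom.app V = AddCommGrpCat.ofHom (pushSecEquiv i V.unop).toAddMonoidHom := fun V => by
    simp only [ψ', Functor.preimageIso_hom]
    exact congrArg (fun f => NatTrans.app f V) ((sheafToPresheaf _ _).map_preimage _)
  refine ⟨ψ, ψ', Sheaf.hom_ext (NatTrans.ext (funext fun V => ?_))⟩
  show ((EtZar.resZar T).map (rho i)).hom.app V ≫ ψ'.hom.hom.app V =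
    ψ.hom.hom.app V ≫ ((Univ.liftF T.toTopCat).map _).hom.app V
  rw [hψ, hψ']
  ext s
  refine congrArg ULift.up ?_
  obtain ⟨x⟩ := s
  let V' : T.Opens := V.unop
  change Γ((V' : Scheme.{u}), ⊤) at x
  show (i ⁻¹ᵁ V.unop).topIso.hom
      (((pullback.fst V'.ι i).appTop ≫ (toBc i V').appTop) x) = i.app V' (V'.topIso.hom x)
  have e := congrArg (fun q : (i ⁻¹ᵁ V').toScheme ⟶ (V' : Scheme.{u}) => q.appTop x)
    (show toBc i V' ≫ pullback.fst V'.ι i = i ∣_ V' from pullback.lift_fst _ _ _)
  exact (congrArg (fun c : Γ((i ⁻¹ᵁ V').toScheme, ⊤) => (i ⁻¹ᵁ V').topIso.hom c) e).trans (topIso_restrict i _ x)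

/-- If the ideal of `Z` has no cohomology in degree `n + 1`, restriction of `G_a` is surjective in degree `n`. -/
theorem surjective_rho (W : Closeds T) (n : ℕ) (h : Subsingleton (Coh.HH T (CohBase.closedIdeal W) (n + 1))) :
    Function.Surjective (Sheaf.H.map
      (rho (Scheme.IdealSheafData.vanishingIdeal W).subschemeι) n) := by
  let i := (Scheme.IdealSheafData.vanishingIdeal W).subschemeι
  haveI := zarCont T
  haveI : (Coh.structureModule T).IsQuasicoherent := inferInstance
  obtain ⟨a, ha⟩ := GaLin.exists_resZar_equiv (S := T) n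
  obtain ⟨b, hb⟩ := GaLin.exists_liftF_equiv T.toTopCat n
  obtain ⟨ψ, ψ', hψ⟩ := exists_zar_square i
  have hG : AffAcyclic (EtCoh.Ga T) := affAcyclic_of_isAssoc isAssoc_Ga
  haveI : (Coh.structureModule (Scheme.IdealSheafData.vanishingIdeal W).subscheme).IsQuasicoherent := inferInstance
  have hG' : AffAcyclic ((EtCoh.push i).obj (EtCoh.Ga _)) :=
    affAcyclic_push i _ (affAcyclic_of_isAssoc isAssoc_Ga)
  let φ := (SheafOfModules.toSheaf T.ringCatSheaf).map (CohBase.unitPush i)
  have hφ : Function.Surjective (Sheaf.H.map φ n) := by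
    haveI := CohBase.epi_unitPush_subschemeι (Scheme.IdealSheafData.vanishingIdeal W)
    let S : ShortComplex T.Modules := ShortComplex.mk (kernel.ι (CohBase.unitPush i)) _ (kernel.condition _)
    have hS : S.ShortExact := { exact := ShortComplex.exact_of_f_is_kernel _ (kernelIsKernel _) }
    intro y
    have hS' := CohBase.shortExact_toAb hS
    let C := (constantSheaf (Opens.grothendieckTopology T) AddCommGrpCat.{u}).obj (AddCommGrpCat.of (ULift.{u} ℤ))
    have h' : Subsingleton (Abelian.Ext C (S.map (CohBase.toAbF T)).X₁ (n + 1)) := h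
    obtain ⟨x, hx⟩ := Abelian.Ext.covariant_sequence_exact₃ C hS'
      (show Abelian.Ext C (S.map (CohBase.toAbF T)).X₃ n from y) (n₁ := n + 1) rfl (h'.elim _ _)
    exact ⟨x, hx⟩
  intro y
  let m' := ((Sheaf.functorH (Opens.grothendieckTopology T) n).mapIso ψ').addCommGroupIsoToAddEquiv
  let m := ((Sheaf.functorH (Opens.grothendieckTopology T) n).mapIso ψ).addCommGroupIsoToAddEquiv
  let e := (a _ hG).trans (m.trans (b _).symm)
  let e' := (a _ hG').trans (m'.trans (b _).symm)
  have he : ∀ x, e' (Sheaf.H.map (rho i) n x) = Sheaf.H.map φ n (e x) := fun x => by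
    refine (b _).injective ?_
    show b _ ((b _).symm (m' (a _ hG' (Sheaf.H.map (rho i) n x)))) =
      b _ (Sheaf.H.map φ n ((b _).symm (m (a _ hG x))))
    rw [AddEquiv.apply_symm_apply, hb, AddEquiv.apply_symm_apply, ha _ _ hG hG']
    show Sheaf.H.map ψ'.hom n (Sheaf.H.map _ n _) = Sheaf.H.map _ n (Sheaf.H.map ψ.hom n _)
    rw [← Sheaf.H.map_comp_apply, ← Sheaf.H.map_comp_apply]
    exact congrArg (fun f => Sheaf.H.map f n (a _ hG x)) hψ
  obtain ⟨x, hx⟩ := hφ (e' y)
  exact ⟨e.symm x, e'.injective (by rw [he, AddEquiv.apply_symm_apply, hx])⟩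

end Groth.Misc3Cdp.GaClosed

end
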