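import Groth.Agent.Misc3Cdp.Reduce
import Groth.Agent.Misc3Cdp.ASExtZero
import Groth.Agent.SiteCohomology.SpectralDimension

/-!
# cd_p ≤ cd_qc + 1 in characteristic p
-/

set_option autoImplicit false
set_option backward.isDefEq.respectTransparency.types false
set_option linter.style.haveILetI false

universe u

open CategoryTheory CategoryTheory.Limits AlgebraicGeometry Opposite

namespace Groth.Misc3Cdp.Main

/-- `cd_p ≤ cd_qc + 1`. -/
theorem cohDimLEAt_succ {p : ℕ} [hp : Fact p.Prime] {X : Scheme.{u}} [IsNoetherian X]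
    (h0 : (p : Γ(X, ⊤)) = 0) (d : ℕ)
    (hqc : ∀ M : X.Modules, Coh.IsQCoh M → ∀ q, d < q → Subsingleton (Coh.HH X M q)) :
    Dix.CohDimLEAt X p (d + 1) := by
  refine Reduce.cohDimLEAt fun T g _ U j _ _ => ?_
  have h0T : (p : Γ(T, ⊤)) = 0 := by rw [← map_natCast g.appTop.hom, h0, map_zero]
  refine ASExtZero.above_extZero j d (fun M hM q hq => ?_) hp.out h0T
  haveI : M.IsQuasicoherent := hM
  obtain ⟨e⟩ := Groth.CohBase.nonempty_equiv_H_push (f := g) M q
  have h2 : Subsingleton (Coh.HH X ((Scheme.Modules.pushforward g).obj M) q) :=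
    hqc _ (Groth.QCohMod.isQCoh_pushforward M g) q hq
  exact @Equiv.subsingleton _ _ e.symm.toEquiv h2

/-- `cd_p ≤ dim + 1`. -/
theorem cohDimLEAt_dim_succ {p : ℕ} [hp : Fact p.Prime] {X : Scheme.{u}} [IsNoetherian X]
    (h0 : (p : Γ(X, ⊤)) = 0) (n : ℕ) (hn : topologicalKrullDim X ≤ n) :
    Dix.CohDimLEAt X p (n + 1) := by
  refine cohDimLEAt_succ h0 n fun M _ q hq => ?_
  haveI : SpectralSpace X := SpectralSpace.mk
  haveI : SpectralSpace ↑X.toTopCat := ‹SpectralSpace X›
  exact Groth.SiteCohomology.SpectralDim.subsingleton_H (X := X.toTopCat) hn (Coh.toAb M) hq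

end Groth.Misc3Cdp.Main
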