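import Groth.Agent.Misc3Cdp.Devissage
import Groth.Agent.EtaleDeep.Cons.TorsionColimit
import Groth.Agent.EtaleDeep.Cons.NoetherianTorsion
import Groth.Agent.FlatMor2.ColimCoh.Etale
import Groth.Prelude.Def_Dix

/-!
# p-primary torsion sheaves: reduction to constructible sheaves killed by p
-/

set_option autoImplicit false
set_option backward.isDefEq.respectTransparency.types false
set_option linter.style.haveILetI false

universe u

open CategoryTheory CategoryTheory.Limits AlgebraicGeometry Opposite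

namespace Groth.Misc3Cdp.Reduce

open Groth.EtaleBase Groth.EtaleBase.LocConst Groth.EtaleDeep.Cons

variable {X : Scheme.{u}} [IsNoetherian X] {p : ℕ} [hp : Fact p.Prime] {D : ℕ}

/-- Dévissage along powers of `p`. -/
theorem above_pow (hyp : Devissage.Hyp X p D) :
    ∀ (a : ℕ) (C : EtCoh.Ab X), EtPBC.IsConstructible C → p ^ a • 𝟙 C = 0 → Van.Above D C := by
  intro a
  induction a with
  | zero =>
    intro C _ h
    rw [pow_zero, one_smul] at h
    exact Van.of_isZero ((IsZero.iff_id_eq_zero C).2 h)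
  | succ a ih =>
    intro C hC h
    let π := cokernel.π (p • 𝟙 C)
    let I := kernel π
    have hI : p ^ a • 𝟙 I = 0 := by
      let e : C ⟶ I := Abelian.factorThruImage (p • 𝟙 C)
      have he : e ≫ kernel.ι π = p • 𝟙 C := Abelian.image.fac (p • 𝟙 C)
      haveI : Epi e := inferInstanceAs (Epi (Abelian.factorThruImage (p • 𝟙 C)))
      rw [← cancel_epi e, Preadditive.comp_nsmul, comp_zero, Category.comp_id, ← cancel_mono (kernel.ι π),
        Preadditive.nsmul_comp, he, smul_smul, ← pow_succ, h, zero_comp]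
    have hQ : EtCoh.KilledBy p (cokernel (p • 𝟙 C)) := ConstSub.killedBy_of_nsmul_id' (by
      rw [← cancel_epi π, Preadditive.comp_nsmul, Category.comp_id, comp_zero, ← Category.id_comp π,
        ← Preadditive.nsmul_comp, cokernel.condition])
    have hS : (ShortComplex.mk (kernel.ι π) π (kernel.condition π)).ShortExact :=
      { exact := ShortComplex.exact_of_f_is_kernel _ (kernelIsKernel π) }
    exact Van.of_ext hS
      (ih I (isConstructible_kernel π hC (isConstructible_cokernel _ hC hC)) hI)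
      (Devissage.above_constructible hyp _ (isConstructible_cokernel _ hC hC) hQ)

/-- The reduction theorem. -/
theorem cohDimLEAt (hyp : Devissage.Hyp X p D) : Dix.CohDimLEAt X p D := by
  intro F hF q hq
  have hT : EtCoh.IsTorsion F := fun U s x => by
    obtain ⟨V, g, hv, k, hk⟩ := hF U s x
    exact ⟨V, g, hv, isOfFinAddOrder_iff_nsmul_eq_zero.2 ⟨p ^ k, pow_pos hp.out.pos k, hk⟩⟩
  obtain ⟨hc⟩ := nonempty_isColimit_presCocone hT
  haveI := Groth.FlatMor2.ColimCoh.Etale.preservesColimitsOfShape_HF X (PresCat F) q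
  refine subsingleton_of_forall_eq 0 fun x => ?_
  obtain ⟨P, y, hy⟩ := Types.jointly_surjective _
    (isColimitOfPreserves (EtCoh.HF X q ⋙ CategoryTheory.forget AddCommGrpCat.{u + 1}) hc) x
  change (EtCoh.HF X q).obj ((presDiag F).obj P) at y
  change (EtCoh.HF X q).map ((presCocone F).ι.app P) y = x at hy
  let C := (presDiag F).obj P
  let g : C ⟶ F := (presCocone F).ι.app P
  let N : ℕ := ∏ i, (P : PresOver F).n i
  have hN0 : 0 < N := Finset.prod_pos fun i _ => ((P : PresOver F).hn i).1
  have hNC : N • 𝟙 C = 0 := by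
    show N • 𝟙 (cokernel (P : PresOver F).φ) = 0
    rw [← cancel_epi (cokernel.π (P : PresOver F).φ), Preadditive.comp_nsmul, Category.comp_id, comp_zero]
    refine biproduct.hom_ext' _ _ fun i => ?_
    obtain ⟨c, hc'⟩ : (P : PresOver F).n i ∣ N := Finset.dvd_prod_of_mem _ (Finset.mem_univ i)
    rw [Preadditive.comp_nsmul, comp_zero, ← Category.id_comp (biproduct.ι _ i ≫ _), ← Preadditive.nsmul_comp,
      hc', mul_comm, mul_smul, nsmul_id_extZeroConst, smul_zero, zero_comp]
  obtain ⟨a, m, hm, hN⟩ := Nat.exists_eq_pow_mul_and_not_dvd hN0.ne' p hp.out.ne_one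
  have hg : p ^ a • g = 0 := by
    refine stalkAt_jointlyReflectIsomorphisms.jointlyFaithful.map_injective fun s => ?_
    ext c
    rw [Functor.map_nsmul, Functor.map_zero]
    obtain ⟨U, u, σ, hσ⟩ := germ_surjective (geomPoint s) F ((EtCoh.stalk (geomPoint s)).map g c)
    obtain ⟨V, i, hv, k, hk⟩ := hF U σ (fiberPoint (geomPoint s) u)
    obtain ⟨v, hv⟩ := hv
    obtain ⟨w, hw, -⟩ := exists_fiber_lift (geomPoint s) i u v hv
    have h1 : p ^ k • ((EtCoh.stalk (geomPoint s)).map g c) = 0 := by
      rw [← hσ, ← hw, ← germ_res, ← map_nsmul, hk, map_zero]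
    have h2 : N • ((EtCoh.stalk (geomPoint s)).map g c) = 0 := by
      have h3 : (EtCoh.stalk (geomPoint s)).map (N • 𝟙 C) c = 0 := by rw [hNC, Functor.map_zero]; rfl
      rw [← map_nsmul]
      refine (congrArg _ ?_).trans (map_zero _)
      rw [Functor.map_nsmul, CategoryTheory.Functor.map_id] at h3
      exact h3
    have h4 : addOrderOf ((EtCoh.stalk (geomPoint s)).map g c) ∣ p ^ a := by
      have hd := Nat.dvd_gcd (addOrderOf_dvd_of_nsmul_eq_zero h1) (addOrderOf_dvd_of_nsmul_eq_zero h2)
      rw [hN, Nat.Coprime.gcd_mul_right_cancel_right _ (((Nat.Prime.coprime_iff_not_dvd hp.out).2 hm).pow_left k).symm] at hd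
      exact hd.trans (Nat.gcd_dvd_right _ _)
    exact addOrderOf_dvd_iff_nsmul_eq_zero.1 h4
  have hCc : EtPBC.IsConstructible C := isConstructible_presDiag P
  have hQ : p ^ a • 𝟙 (cokernel (p ^ a • 𝟙 C)) = 0 := by
    rw [← cancel_epi (cokernel.π (p ^ a • 𝟙 C)), Preadditive.comp_nsmul, Category.comp_id, comp_zero,
      ← Category.id_comp (cokernel.π (p ^ a • 𝟙 C)), ← Preadditive.nsmul_comp, cokernel.condition]
  have hfac : cokernel.π (p ^ a • 𝟙 C) ≫ cokernel.desc (p ^ a • 𝟙 C) g
      (by rw [Preadditive.nsmul_comp, Category.id_comp, hg]) = g := cokernel.π_desc _ _ _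
  haveI : Subsingleton ((EtCoh.HF X q).obj (cokernel (p ^ a • 𝟙 C))) :=
    above_pow hyp a _ (isConstructible_cokernel _ hCc hCc) hQ q hq
  rw [← hy]
  show (EtCoh.HF X q).map g y = 0
  rw [← hfac, Functor.map_comp, ConcreteCategory.comp_apply,
    Subsingleton.elim ((EtCoh.HF X q).map (cokernel.π (p ^ a • 𝟙 C)) y) 0]
  exact map_zero _

end Groth.Misc3Cdp.Reduce
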