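import Groth.Agent.Misc3Cdp.Dense
import Groth.Agent.Misc3Cdp.Reduce
import Groth.Agent.Misc3Cdp.ASExtZero
import Groth.Agent.Misc3Zar.ArtinSchreierProper
import Groth.Agent.Misc3Zar.ArtinSchreierVanish
import Groth.Agent.Misc3Zar.ArtinSchreierZar
import Groth.Agent.LocImm.FiniteFactor
import Groth.Agent.FlatMor2.ColimCoh.Etale

/-!
# cd_p ≤ dim over a separably closed field of characteristic p
-/

set_option autoImplicit false
set_option backward.isDefEq.respectTransparency.types false
set_option linter.style.haveILetI false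

universe u

open CategoryTheory CategoryTheory.Limits CategoryTheory.Abelian AlgebraicGeometry Opposite TopologicalSpace

namespace Groth.Misc3Cdp.QProj

open Groth.Misc3Zar Groth.EtaleBase Groth.EtaleBase.LocConst

attribute [local instance] Groth.EtaleBase.InjCoh.jCont

/-- The kernel of `F - 1` has no cohomology above the dimension if `F - 1` is surjective in top degree. -/
theorem above_kernel_top {Y : Scheme.{u}} [CompactSpace Y] [QuasiSeparatedSpace Y] {p : ℕ} (hp : p.Prime)
    (h0 : (p : Γ(Y, ⊤)) = 0) (m : ℕ) (hm : topologicalKrullDim Y ≤ m)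
    (hs : Function.Surjective (Sheaf.H.map (ASExtZero.as hp h0) m)) :
    Van.Above m (kernel (ASExtZero.as hp h0)) := by
  have hGa := fun q hq => ASVanish.subsingleton_H_Ga (X := Y) hm q hq
  intro q hq
  obtain ⟨n, rfl⟩ : ∃ n, q = n + 1 := ⟨q - 1, by omega⟩
  refine subsingleton_of_forall_eq 0 fun x => ?_
  obtain ⟨y, rfl⟩ := Ext.covariant_sequence_exact₁ _ (ASExtZero.asSeq_shortExact hp h0)
    (show Ext _ (ASExtZero.asSeq hp h0).X₁ (n + 1) from x) ((hGa (n + 1) (by omega)).elim _ _) rfl
  obtain ⟨z, rfl⟩ : ∃ z : Ext _ (ASExtZero.asSeq hp h0).X₂ n,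
      z.comp (Ext.mk₀ (ASExtZero.asSeq hp h0).g) (add_zero n) = y := by
    rcases (show m = n ∨ m < n by omega) with rfl | h
    · exact hs y
    · exact ⟨0, (hGa n h).elim _ _⟩
  exact (EndoCmp.conn_eq_zero_iff _ (ASExtZero.asSeq_shortExact hp h0) n _).2 ⟨z, rfl⟩

variable {k : Type u} [Field k] [IsSepClosed k] {p : ℕ} [hp : Fact p.Prime] [CharP k p]
  {P : Scheme.{u}} (q : P ⟶ Spec (CommRingCat.of k)) [IsProper q]

omit [IsSepClosed k] in
include q in
theorem natCast_eq_zero {Y : Scheme.{u}} (g : Y ⟶ P) : (p : Γ(Y, ⊤)) = 0 := by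
  have h : (p : Γ(Spec (CommRingCat.of k), ⊤)) = 0 := by
    rw [← map_natCast (Scheme.ΓSpecIso (CommRingCat.of k)).inv.hom p]
    exact (congrArg _ (CharP.cast_eq_zero k p)).trans (map_zero _)
  rw [← map_natCast (g ≫ q).appTop.hom, h, map_zero]

include q in
/-- Quasi-finite schemes over a proper scheme: `F - 1` is surjective in top degree. -/
theorem exists_iso_surjective {Y : Scheme.{u}} (g : Y ⟶ P) [IsSeparated g] [LocallyOfFiniteType g]
    [QuasiCompact g] [LocallyQuasiFinite g] (m : ℕ) (hm : topologicalKrullDim Y ≤ m) :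
    ∃ (Y' : Scheme.{u}) (σ : Y' ≅ Y), ∀ h0 : (p : Γ(Y', ⊤)) = 0,
      Function.Surjective (Sheaf.H.map (ASExtZero.as hp.out h0) m) := by
  haveI : CompactSpace P := QuasiCompact.compactSpace_of_compactSpace q
  haveI : QuasiSeparatedSpace P := quasiSeparatedSpace_of_quasiSeparated q
  obtain ⟨T₀, j, g₀, hj, hg₀, hjg⟩ := Groth.LocImmersion.exists_isOpenImmersion_comp_isFinite g
  haveI := hj
  haveI := hg₀
  haveI : CompactSpace Y := QuasiCompact.compactSpace_of_compactSpace g
  haveI : IsLocallyNoetherian T₀ := LocallyOfFiniteType.isLocallyNoetherian (g₀ ≫ q)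
  haveI : QuasiCompact j := inferInstance
  let Yb := j.image
  let e : Y ⟶ Yb := j.toImage
  let fb : Yb ⟶ Spec (CommRingCat.of k) := j.imageι ≫ g₀ ≫ q
  haveI : CompactSpace Yb := QuasiCompact.compactSpace_of_compactSpace fb
  haveI : QuasiSeparatedSpace Yb := quasiSeparatedSpace_of_quasiSeparated fb
  have hd : DenseRange e.base := e.denseRange
  have hdim : topologicalKrullDim Yb ≤ m := (Dense.dim_le fb e hd).trans hm
  have h0b : (p : Γ(Yb, ⊤)) = 0 := natCast_eq_zero q (j.imageι ≫ g₀)
  refine ⟨(e.opensRange : Scheme.{u}), e.isoOpensRange.symm, fun h0 => ?_⟩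
  rw [ASZar.surjective_et_iff p hp.out h0]
  refine ASZar.surjective_asZar_opens p hp.out h0b m hdim e.opensRange ?_ ?_ h0
  · exact isCompact_range e.continuous
  · rw [← ASZar.surjective_et_iff p hp.out h0b]
    exact (ASProper.surjective_and_finite_kernel p hp.out h0b fb m).1

include q in
/-- Extensions by zero from dense opens, when `F - 1` is surjective in top degree on the ambient scheme. -/
theorem above_extZero_of_surjective {T U : Scheme.{u}} (g : T ⟶ P) [IsSeparated g] [LocallyOfFiniteType g]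
    [QuasiCompact g] [LocallyQuasiFinite g] (j : U ⟶ T) [IsOpenImmersion j] [EtShriek.JCont j]
    (hd : DenseRange j.base) (n : ℕ) (hn : topologicalKrullDim T ≤ n) (h0 : (p : Γ(T, ⊤)) = 0)
    (hs : Function.Surjective (Sheaf.H.map (ASExtZero.as hp.out h0) n)) :
    Van.Above n ((EtShriek.extZero j).obj (EtCoh.const U (ZMod p))) := by
  classical
  haveI : CompactSpace P := QuasiCompact.compactSpace_of_compactSpace q
  haveI : QuasiSeparatedSpace P := quasiSeparatedSpace_of_quasiSeparated q
  haveI : CompactSpace T := QuasiCompact.compactSpace_of_compactSpace g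
  haveI : QuasiSeparatedSpace T := quasiSeparatedSpace_of_quasiSeparated g
  have hKT : Van.Above n (kernel (ASExtZero.as hp.out h0)) := above_kernel_top hp.out h0 n hn hs
  let W : Closeds T := ⟨(Set.range j.base)ᶜ, j.isOpenEmbedding.isOpen_range.isClosed_compl⟩
  let I := Scheme.IdealSheafData.vanishingIdeal W
  have hr : Set.range I.subschemeι.base = (Set.range j.base)ᶜ := CohBase.range_reduced W
  rcases n with _ | m
  · have hIe : IsEmpty I.subscheme := Dense.isEmpty_compl (g ≫ q) j hd I.subschemeι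
      (fun z => by
        have h : I.subschemeι.base z ∈ Set.range I.subschemeι.base := ⟨z, rfl⟩
        rw [hr] at h
        exact h) hn
    have h0Z : (p : Γ(I.subscheme, ⊤)) = 0 := natCast_eq_zero q (I.subschemeι ≫ g)
    obtain ⟨κ, -, -, -, ⟨eker⟩⟩ := ASExtZero.exists_kernel_iso j I.subschemeι hr hp.out h0 h0Z
    have hz : IsZero ((EtCoh.push I.subschemeι).obj (kernel (ASExtZero.as hp.out h0Z))) := by
      rw [IsZero.iff_id_eq_zero]
      refine stalkAt_jointlyReflectIsomorphisms.jointlyFaithful.map_injective fun s => ?_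
      refine (isZero_stalk_push I.subschemeι I.subschemeι.isClosedEmbedding.isClosed_range
        (geomPoint s) ?_ _).eq_of_src _ _
      rintro ⟨z, -⟩
      exact hIe.false z
    have hκ0 : κ = 0 := hz.eq_of_tgt _ _
    subst hκ0
    exact Van.of_iso eker (Van.of_iso (kernelZeroIsoSource).symm hKT)
  · have hdimZ : topologicalKrullDim I.subscheme ≤ m := Dense.dim_compl_le (g ≫ q) j hd I.subschemeι
      (fun z => by
        have h : I.subschemeι.base z ∈ Set.range I.subschemeι.base := ⟨z, rfl⟩
        rw [hr] at h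
        exact h) hn
    obtain ⟨Z, σ, hσ⟩ := exists_iso_surjective (p := p) q (I.subschemeι ≫ g) m hdimZ
    let i : Z ⟶ T := σ.hom ≫ I.subschemeι
    have hri : Set.range i.base = (Set.range j.base)ᶜ := by
      rw [← hr]
      exact Set.ext fun t => ⟨fun ⟨z, hz⟩ => ⟨σ.hom z, hz⟩, fun ⟨z, hz⟩ => by
        obtain ⟨w, rfl⟩ := σ.hom.surjective z
        exact ⟨w, hz⟩⟩
    have hdimZ' : topologicalKrullDim Z ≤ m := by
      refine le_trans ?_ hdimZ
      exact σ.hom.homeomorph.isClosedEmbedding.isInducing.topologicalKrullDim_le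
    haveI : CompactSpace Z := QuasiCompact.compactSpace_of_compactSpace i
    haveI : QuasiSeparatedSpace Z := quasiSeparatedSpace_of_quasiSeparated i
    have h0Z : (p : Γ(Z, ⊤)) = 0 := natCast_eq_zero q (i ≫ g)
    obtain ⟨κ, hκe, -, -, ⟨eker⟩⟩ := ASExtZero.exists_kernel_iso j i hri hp.out h0 h0Z
    haveI := hκe
    let R : ShortComplex (EtCoh.Ab T) := ShortComplex.mk (kernel.ι κ) κ (kernel.condition κ)
    have hR : R.ShortExact := { exact := ShortComplex.exact_of_f_is_kernel _ (kernelIsKernel κ) }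
    have hKZ : Van.Above m ((EtCoh.push i).obj (kernel (ASExtZero.as hp.out h0Z))) :=
      Van.push i (above_kernel_top hp.out h0Z m hdimZ' (hσ h0Z))
    refine Van.of_iso eker ?_
    intro r hr'
    obtain ⟨r', rfl⟩ : ∃ r', r = r' + 1 := ⟨r - 1, by omega⟩
    refine subsingleton_of_forall_eq 0 fun x => ?_
    obtain ⟨y, rfl⟩ := Ext.covariant_sequence_exact₁ _ hR (show Ext _ R.X₁ (r' + 1) from x)
      ((hKT (r' + 1) hr').elim _ _) rfl
    rw [show y = 0 from (hKZ r' (by omega)).elim _ _]
    exact Ext.zero_comp _ _ _ _ _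

/-- The square of a factorisation through a monomorphism. -/
theorem isPullback_of_mono {A B C : Scheme.{u}} (a : A ⟶ B) (ι : B ⟶ C) (j : A ⟶ C) [Mono ι] [Mono j]
    (h : a ≫ ι = j) : IsPullback a (𝟙 A) ι j := by
  refine IsPullback.of_isLimit' ⟨by rw [h, Category.id_comp]⟩
    (PullbackCone.IsLimit.mk _ (fun s => s.snd) (fun s => ?_) (fun s => Category.comp_id _) (fun s m _ h2 => ?_))
  · rw [← cancel_mono ι, Category.assoc, h]
    exact s.condition.symm
  · rw [Category.comp_id] at h2
    exact h2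

include q in
/-- Extensions by zero on quasi-finite schemes over a proper scheme. -/
theorem above_extZero {T U : Scheme.{u}} (g : T ⟶ P) [IsSeparated g] [LocallyOfFiniteType g]
    [QuasiCompact g] [LocallyQuasiFinite g] (j : U ⟶ T) [IsOpenImmersion j] [EtShriek.JCont j]
    (n : ℕ) (hn : topologicalKrullDim T ≤ n) :
    Van.Above n ((EtShriek.extZero j).obj (EtCoh.const U (ZMod p))) := by
  haveI : CompactSpace P := QuasiCompact.compactSpace_of_compactSpace q
  haveI : IsLocallyNoetherian T := LocallyOfFiniteType.isLocallyNoetherian (g ≫ q)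
  haveI : QuasiCompact j := inferInstance
  let T₁ := j.image
  let ι : T₁ ⟶ T := j.imageι
  have hn1 : topologicalKrullDim T₁ ≤ n :=
    le_trans ι.isClosedEmbedding.isInducing.topologicalKrullDim_le hn
  obtain ⟨T₂, σ, hσ⟩ := exists_iso_surjective (p := p) q (ι ≫ g) n hn1
  let ι' : T₂ ⟶ T := σ.hom ≫ ι
  let j' : U ⟶ T₂ := j.toImage ≫ σ.inv
  have hfac : j' ≫ ι' = j := by
    simp only [j', ι', Category.assoc, σ.inv_hom_id_assoc]
    exact j.toImage_imageι
  have hd : DenseRange j'.base :=
    σ.inv.surjective.denseRange.comp j.toImage.denseRange σ.inv.continuous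
  have hn2 : topologicalKrullDim T₂ ≤ n :=
    le_trans ι'.isClosedEmbedding.isInducing.topologicalKrullDim_le hn
  obtain ⟨e⟩ := nonempty_push_extZero ι' j j' (𝟙 U) (isPullback_of_mono j' ι' j hfac) (EtCoh.const U (ZMod p))
  refine Van.of_iso (e ≪≫ (EtShriek.extZero j).mapIso
    ((Groth.FlatMor2.ColimCoh.Etale.pushIdIso U).app (EtCoh.const U (ZMod p)))) (Van.push ι' ?_)
  have h0 : (p : Γ(T₂, ⊤)) = 0 := natCast_eq_zero q (ι' ≫ g)
  exact above_extZero_of_surjective q (ι' ≫ g) j' hd n hn2 h0 (hσ h0)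

end Groth.Misc3Cdp.QProj
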