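import Groth.Agent.EtaleBase.LocConstOps
import Groth.Agent.Pi1FEt.Points
import Groth.Agent.Pi1FEt.Components
import Groth.Agent.Pi1Galois.Basic
import Groth.Agent.PiTopGen.Basic
import Mathlib.GroupTheory.Sylow

/-!
# Sections over finite étale covers of degree prime to p (fixed points of a Sylow subgroup)
-/

set_option autoImplicit false
set_option backward.isDefEq.respectTransparency.types false
set_option linter.style.haveILetI false

universe u

open CategoryTheory CategoryTheory.Limits AlgebraicGeometry Opposite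

namespace Groth.Misc3Cdp.SylowCover

open Groth.EtaleBase Groth.EtaleBase.LocConst
open scoped CategoryTheory.PreGaloisCategory

variable {X : Scheme.{u}}

section Germ

variable {G : EtCoh.Ab X} {U : X.Etale}
  (e : G.obj ⋙ forget AddCommGrpCat.{u + 1} ≅ yoneda.obj U ⋙ uliftFunctor.{u + 1})

/-- The section of `G` classified by a morphism to `U`. -/
noncomputable def secOf {W : X.Etale} (h : W ⟶ U) : G.obj.obj (op W) := e.inv.app (op W) ⟨h⟩

/-- The morphism to `U` classifying a section. -/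
noncomputable def homOf {W : X.Etale} (s : G.obj.obj (op W)) : W ⟶ U := (e.hom.app (op W) s).down

lemma secOf_homOf {W : X.Etale} (s : G.obj.obj (op W)) : secOf e (homOf e s) = s :=
  ConcreteCategory.congr_hom (e.hom_inv_id_app (op W)) s

lemma homOf_secOf {W : X.Etale} (h : W ⟶ U) : homOf e (secOf e h) = h :=
  congrArg ULift.down (ConcreteCategory.congr_hom (e.inv_hom_id_app (op W)) ⟨h⟩)

lemma homOf_res {V W : X.Etale} (g : V ⟶ W) (s : G.obj.obj (op W)) :
    homOf e (G.obj.map g.op s) = g ≫ homOf e s :=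
  congrArg ULift.down (NatTrans.naturality_apply e.hom g.op s)

lemma res_secOf {V W : X.Etale} (g : V ⟶ W) (h : W ⟶ U) :
    G.obj.map g.op (secOf e h) = secOf e (g ≫ h) := by
  rw [← secOf_homOf e (G.obj.map g.op (secOf e h)), homOf_res, homOf_secOf]

variable {Ω : Type u} [Field Ω] [IsSepClosed Ω] (ξ : Spec (CommRingCat.of Ω) ⟶ X)

/-- Stalks of a representable sheaf are the fibres. -/
noncomputable def germUniv (t : (Scheme.pointSmallEtale ξ).fiber.obj U) : (EtCoh.stalk ξ).obj G :=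
  germ ξ G U t (secOf e (𝟙 U))

lemma germ_secOf {W : X.Etale} (h : W ⟶ U) (w : (Scheme.pointSmallEtale ξ).fiber.obj W) :
    germ ξ G W w (secOf e h) = germUniv e ξ ((Scheme.pointSmallEtale ξ).fiber.map h w) := by
  rw [germUniv, ← germ_res ξ G h w (secOf e (𝟙 U)), res_secOf, Category.comp_id]

lemma bijective_germUniv : Function.Bijective (germUniv e ξ) := by
  constructor
  · intro t t' h
    obtain ⟨W, g, g', w, hg, hg'⟩ := exists_common (ξ := ξ) U U t t'
    have he : germ ξ G W w (secOf e g) = germ ξ G W w (secOf e g') := by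
      rw [germ_secOf, germ_secOf, hg, hg', h]
    obtain ⟨V, k, v, hv, hk⟩ := (germ_eq_iff ξ G W w _ _).1 he
    rw [res_secOf, res_secOf] at hk
    have hk' : k ≫ g = k ≫ g' := by rw [← homOf_secOf e (k ≫ g), hk, homOf_secOf]
    rw [← hg, ← hg', ← hv, ← Functor.map_comp_apply, ← Functor.map_comp_apply, hk']
  · intro a
    obtain ⟨W, w, σ, rfl⟩ := germ_surjective ξ G a
    exact ⟨(Scheme.pointSmallEtale ξ).fiber.map (homOf e σ) w, by rw [← germ_secOf, secOf_homOf]⟩

/-- The two descriptions of the fibre of a finite étale cover at a geometric point. -/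
noncomputable def fibreEquiv (Y : FEt.Cat X) [Etale Y.hom] :
    FEt.fiberObj ξ Y ≃ (Scheme.pointSmallEtale ξ).fiber.obj (Scheme.Etale.mk Y.hom) where
  toFun s := Over.homMk (show Spec (CommRingCat.of Ω) ⟶ Y.left from s.1) s.2
  invFun t := ⟨t.left, Over.w t⟩
  left_inv _ := rfl
  right_inv _ := rfl

end Germ

/-- A morphism of finite étale covers as a morphism of the small étale site. -/
noncomputable def toEt {Y Z : FEt.Cat X} [Etale Y.hom] [Etale Z.hom] (k : Y ⟶ Z) :
    Scheme.Etale.mk Y.hom ⟶ Scheme.Etale.mk Z.hom :=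
  MorphismProperty.Over.homMk k.left (MorphismProperty.Over.w k)

lemma germUniv_map {G : EtCoh.Ab X} {Y Z : FEt.Cat X} [Etale Y.hom] [Etale Z.hom]
    (e : G.obj ⋙ forget AddCommGrpCat.{u + 1} ≅ yoneda.obj (Scheme.Etale.mk Z.hom) ⋙ uliftFunctor.{u + 1})
    {Ω : Type u} [Field Ω] [IsSepClosed Ω] (ξ : Spec (CommRingCat.of Ω) ⟶ X) (k : Y ⟶ Z)
    (s : FEt.fiberObj ξ Y) :
    germUniv e ξ (fibreEquiv ξ Z ((FEt.fiber ξ).map k s)) =
      germ ξ G (Scheme.Etale.mk Y.hom) (fibreEquiv ξ Y s) (secOf e (toEt k)) :=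
  ((germ_secOf e ξ (toEt k) (fibreEquiv ξ Y s)).trans (congrArg (germUniv e ξ) (Over.OverMorphism.ext rfl))).symm

/-- The fibre-to-stalk comparison is natural. -/
lemma fibre_germ_map {G : EtCoh.Ab X} {Y Z : FEt.Cat X} [Etale Y.hom] [Etale Z.hom]
    (e : G.obj ⋙ forget AddCommGrpCat.{u + 1} ≅ yoneda.obj (Scheme.Etale.mk Z.hom) ⋙ uliftFunctor.{u + 1})
    {Ω : Type u} [Field Ω] [IsSepClosed Ω] (ξ : Spec (CommRingCat.of Ω) ⟶ X)
    {F : FEt.Cat X ⥤ FintypeCat.{u}} (ε : F ⋙ FintypeCat.incl ≅ FEt.fiber ξ) (k : Y ⟶ Z)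
    (w : (F.obj Y : Type u)) :
    germUniv e ξ (fibreEquiv ξ Z ((ε.app Z).toEquiv (F.map k w))) =
      germ ξ G (Scheme.Etale.mk Y.hom) (fibreEquiv ξ Y ((ε.app Y).toEquiv w)) (secOf e (toEt k)) := by
  have h1 : (ε.app Z).toEquiv (F.map k w) = (FEt.fiber ξ).map k ((ε.app Y).toEquiv w) :=
    ConcreteCategory.congr_hom (ε.hom.naturality k) w
  rw [h1]
  exact germUniv_map e ξ k _

/-- An isomorphism of representing objects. -/
noncomputable def reprIso {G : EtCoh.Ab X} {U : X.Etale}
    (e : G.obj ⋙ forget AddCommGrpCat.{u + 1} ≅ yoneda.obj U ⋙ uliftFunctor.{u + 1}) [Etale U.hom] :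
    G.obj ⋙ forget AddCommGrpCat.{u + 1} ≅ yoneda.obj (Scheme.Etale.mk U.hom) ⋙ uliftFunctor.{u + 1} :=
  e ≪≫ Functor.isoWhiskerRight (yoneda.mapIso (MorphismProperty.Over.isoMk (Iso.refl _) (by exact Category.id_comp _)))
    uliftFunctor.{u + 1}

theorem connectedSpace_left [PreconnectedSpace X] {Ω : Type u} [Field Ω] [IsAlgClosed Ω]
    (ξ : Spec (CommRingCat.of Ω) ⟶ X) (B : FEt.Cat X)
    (hB : letI := Pi1FEt.preGaloisCategory X; PreGaloisCategory.IsConnected B)
    (hne : Nonempty (FEt.fiberObj ξ B)) : ConnectedSpace ↥B.left := by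
  letI := Pi1FEt.preGaloisCategory X
  haveI := Pi1FEt.fiberFunctor_fiberFun ξ
  haveI : GaloisCategory (FEt.Cat X) := ⟨Pi1FEt.fiberFun ξ, ⟨inferInstance⟩⟩
  haveI := hB
  obtain ⟨b⟩ := hne
  haveI : Nonempty ↥B.left := ⟨b.1.base default⟩
  haveI : PreconnectedSpace ↥B.left := by
    refine preconnectedSpace_iff_clopen.2 fun C hC => ?_
    refine (Set.eq_empty_or_nonempty C).imp_right fun hCne => ?_
    let K := Pi1FEt.clopenCover C hC
    haveI : IsFinite K.hom := K.prop.1
    haveI : Etale K.hom := K.prop.2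
    haveI : IsFinite B.hom := B.prop.1
    haveI : Etale B.hom := B.prop.2
    let A : FEt.Cat X := MorphismProperty.Over.mk ⊤ (K.hom ≫ B.hom) ⟨inferInstance, inferInstance⟩
    let i : A ⟶ B := MorphismProperty.Over.homMk K.hom rfl
    haveI : IsOpenImmersion K.hom := inferInstanceAs (IsOpenImmersion (Scheme.Opens.ι _))
    haveI : Mono i.left := inferInstanceAs (Mono K.hom)
    haveI : Mono ((MorphismProperty.Over.forget FEt.prop ⊤ X ⋙ Over.forget X).map i) :=
      inferInstanceAs (Mono i.left)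
    haveI : Mono i := (MorphismProperty.Over.forget FEt.prop ⊤ X ⋙ Over.forget X).mono_of_mono_map
      inferInstance
    let g : A.left ⟶ X := A.hom
    have hsurj : Function.Surjective g.base := by
      haveI : IsFinite g := A.prop.1
      haveI : Etale g := A.prop.2
      have hc : IsClopen (Set.range g.base) :=
        ⟨g.isClosedMap.isClosed_range, g.isOpenMap.isOpen_range⟩
      obtain ⟨c, hc'⟩ := hCne
      rw [← Pi1FEt.range_clopenCover C hC] at hc'
      obtain ⟨a, -⟩ := hc'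
      exact Set.range_eq_univ.1 (hc.eq_univ ⟨_, a, rfl⟩)
    obtain ⟨a, ha⟩ := hsurj (ξ.base (IsLocalRing.closedPoint Ω))
    obtain ⟨s, -⟩ := PiTopGen.exists_fiberObj ξ A a ha
    let e := Pi1FEt.fiberFunIso ξ
    haveI : IsIso i := PreGaloisCategory.IsConnected.noTrivialComponent _ i
      (PreGaloisCategory.not_initial_of_inhabited (Pi1FEt.fiberFun ξ) (e.inv.app A s))
    haveI : IsIso i.left :=
      inferInstanceAs (IsIso ((MorphismProperty.Over.forget FEt.prop ⊤ X ⋙ Over.forget X).map i))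
    rw [← Pi1FEt.range_clopenCover C hC]
    exact Set.range_eq_univ.2 (show Function.Surjective i.left.base from i.left.surjective)
  exact ⟨inferInstance⟩

/-- A nonzero sheaf killed by `p`, represented by a finite étale scheme over a connected base, has a section
with nonzero germ over a connected finite étale cover of constant degree prime to `p`. -/
theorem exists_cover [ConnectedSpace X] {p : ℕ} [hp : Fact p.Prime] {G : EtCoh.Ab X} {U : X.Etale}
    (e : G.obj ⋙ forget AddCommGrpCat.{u + 1} ≅ yoneda.obj U ⋙ uliftFunctor.{u + 1}) [IsFinite U.hom]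
    (hG : EtCoh.KilledBy p G) {Ω : Type u} [Field Ω] [IsAlgClosed Ω] (ξ : Spec (CommRingCat.of Ω) ⟶ X)
    (a : (EtCoh.stalk ξ).obj G) (ha : a ≠ 0) :
    ∃ (T : Scheme.{u}) (f : T ⟶ X) (_ : IsFinite f) (_ : Etale f) (_ : ConnectedSpace T) (d : ℕ),
      p.Coprime d ∧ (∀ x, f.finrank x = d) ∧
      ∃ (s : G.obj.obj (op (Scheme.Etale.mk f)))
        (t : (Scheme.pointSmallEtale ξ).fiber.obj (Scheme.Etale.mk f)),
        germ ξ G _ t s ≠ 0 := by
  haveI : Etale U.hom := U.prop
  letI := Pi1FEt.preGaloisCategory X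
  haveI := Pi1FEt.fiberFunctor_fiberFun ξ
  haveI : GaloisCategory (FEt.Cat X) := ⟨Pi1FEt.fiberFun ξ, ⟨inferInstance⟩⟩
  let UF : FEt.Cat X := MorphismProperty.Over.mk ⊤ U.hom ⟨inferInstance, inferInstance⟩
  haveI : Etale UF.hom := UF.prop.2
  obtain ⟨F, hFF, ⟨ε⟩⟩ : ∃ (F : FEt.Cat X ⥤ FintypeCat.{u}) (_ : PreGaloisCategory.FiberFunctor F),
      Nonempty (F ⋙ FintypeCat.incl ≅ FEt.fiber ξ) := ⟨Pi1FEt.fiberFun ξ, inferInstance, ⟨Pi1FEt.fiberFunIso ξ⟩⟩
  haveI := hFF
  have e' : G.obj ⋙ forget AddCommGrpCat.{u + 1} ≅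
      yoneda.obj (Scheme.Etale.mk UF.hom) ⋙ uliftFunctor.{u + 1} := reprIso e
  -- the fibre is the stalk
  let θ : (F.obj UF : Type u) ≃ (EtCoh.stalk ξ).obj G :=
    ((ε.app UF).toEquiv.trans (fibreEquiv ξ UF)).trans (Equiv.ofBijective _ (bijective_germUniv e' ξ))
  have hθ : ∀ {Y : FEt.Cat X} [Etale Y.hom] (k : Y ⟶ UF) (w : F.obj Y),
      θ (F.map k w) = germ ξ G (Scheme.Etale.mk Y.hom) (fibreEquiv ξ Y ((ε.app Y).toEquiv w)) (secOf e' (toEt k)) :=
    fun {Y} _ k w => fibre_germ_map e' ξ ε k w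
  -- the zero section
  let T₁ : FEt.Cat X := MorphismProperty.Over.mk ⊤ (𝟙 X) ⟨inferInstance, inferInstance⟩
  haveI : Etale T₁.hom := T₁.prop.2
  let zE : Scheme.Etale.mk T₁.hom ⟶ Scheme.Etale.mk UF.hom :=
    homOf e' (0 : G.obj.obj (op (Scheme.Etale.mk T₁.hom)))
  let z : T₁ ⟶ UF := MorphismProperty.Over.homMk zE.left (MorphismProperty.Over.w zE)
  obtain ⟨t₁⟩ : Nonempty (F.obj T₁) :=
    ⟨ε.inv.app T₁ ⟨ξ, Category.comp_id ξ⟩⟩
  let o := F.map z t₁
  have hz : secOf e' (toEt z) = 0 := by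
    rw [show toEt z = zE from MorphismProperty.Over.Hom.ext rfl]
    exact secOf_homOf e' _
  have ho : θ o = 0 := (hθ z t₁).trans (by rw [hz, map_zero])
  have hsub : Subsingleton (F.obj T₁) := ⟨fun a b => by
    refine (ε.app T₁).toEquiv.injective (Subtype.ext ?_)
    exact ((Category.comp_id _).symm.trans ((ε.app T₁).toEquiv a).2).trans
      ((Category.comp_id _).symm.trans ((ε.app T₁).toEquiv b).2).symm⟩
  have hofix : ∀ σ : Aut F, σ • o = o := fun σ => by
    have h := ConcreteCategory.congr_hom (σ.hom.naturality z) t₁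
    refine h.trans ?_
    exact congrArg (F.map z) (Subsingleton.elim (σ.hom.app T₁ t₁) t₁)
  -- p divides the cardinality of the fibre
  have hkill : ∀ x : (EtCoh.stalk ξ).obj G, p • x = 0 := fun x => by
    obtain ⟨W, w, σ, rfl⟩ := germ_surjective ξ G x
    rw [← map_nsmul, hG W σ, map_zero]
  haveI : Finite ((EtCoh.stalk ξ).obj G) := Finite.of_equiv _ θ
  have hdvd : p ∣ Nat.card (F.obj UF) := by
    rw [Nat.card_congr θ, ← addOrderOf_eq_prime (hkill a) ha]
    exact addOrderOf_dvd_natCard a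
  -- the Sylow subgroup of the monodromy group
  let φ : Aut F →* Equiv.Perm (F.obj UF) := MulAction.toPermHom _ _
  let P : Sylow p φ.range := default
  let H : Subgroup (Aut F) := (P : Subgroup φ.range).comap φ.rangeRestrict
  have hHo : IsOpen (H : Set (Aut F)) := by
    refine Subgroup.isOpen_mono (H₁ := φ.ker) ?_ ?_
    · intro σ hσ
      show φ.rangeRestrict σ ∈ (P : Subgroup φ.range)
      rw [show φ.rangeRestrict σ = 1 from Subtype.ext hσ]
      exact one_mem _
    · have hk : (φ.ker : Set (Aut F)) =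
          ⋂ x : F.obj UF, (MulAction.stabilizer (Aut F) x : Set (Aut F)) := by
        ext σ
        simp only [SetLike.mem_coe, MonoidHom.mem_ker, Set.mem_iInter, MulAction.mem_stabilizer_iff]
        exact ⟨fun h x => congrArg (fun (g : Equiv.Perm (F.obj UF)) => g x) h, fun h => Equiv.ext h⟩
      rw [hk]
      exact isOpen_iInter_of_finite fun x => stabilizer_isOpen (Aut F) x
  have hdeg : p.Coprime H.index := by
    rw [show H.index = (P : Subgroup φ.range).index from
      Subgroup.index_comap_of_surjective _ φ.rangeRestrict_surjective]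
    exact (Nat.Prime.coprime_iff_not_dvd hp.out).2 P.not_dvd_index
  -- a second fixed point
  obtain ⟨y, hy, hyo⟩ := (P.isPGroup').exists_fixed_point_of_prime_dvd_card_of_fixed_point (F.obj UF) hdvd
    (a := o) (fun g => by
      obtain ⟨σ, hσ⟩ := (g : φ.range).2
      show ((g : φ.range) : Equiv.Perm (F.obj UF)) o = o
      rw [← hσ]
      exact hofix σ)
  obtain ⟨B, hB, b, hb⟩ := Pi1Galois.exists_connected_stabilizer_eq F H hHo
  obtain ⟨h, hh⟩ := Pi1Galois.exists_hom_of_stabilizer_le F b y (by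
    rw [hb]
    intro σ hσ
    exact hy ⟨φ.rangeRestrict σ, hσ⟩)
  haveI : IsFinite B.hom := B.prop.1
  haveI : Etale B.hom := B.prop.2
  haveI := hB
  haveI hTc : ConnectedSpace ↥B.left := connectedSpace_left ξ B hB ⟨(ε.app B).toEquiv b⟩
  refine ⟨B.left, B.hom, inferInstance, inferInstance, hTc, H.index, hdeg, ?_, ?_⟩
  · have hξ : B.hom.finrank (ξ default) = H.index := by
      rw [← Pi1FEt.natCard_fiberObj ξ B, ← hb,
        MulAction.index_stabilizer_of_transitive (Aut F) b]
      exact (Nat.card_congr (ε.app B).toEquiv).symm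
    let g : B.left ⟶ X := B.hom
    haveI : IsFinite g := B.prop.1
    haveI : Etale g := B.prop.2
    intro x
    rw [← hξ]
    exact g.isLocallyConstant_finrank.apply_eq_of_preconnectedSpace x (ξ default)
  · refine ⟨secOf e' (toEt h), fibreEquiv ξ B ((ε.app B).toEquiv b), fun h0 => hyo (θ.injective ?_)⟩
    rw [ho, ← hh]
    exact ((hθ h b).trans h0).symm

end Groth.Misc3Cdp.SylowCover
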